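import Cfsg.Agent.Lib.GreenCuspidal.Green
import Mathlib.LinearAlgebra.Matrix.ToLin
import Mathlib.LinearAlgebra.Matrix.GeneralLinearGroup.Defs

/-!
# Green's function sums to zero over the unipotent radicals
-/

set_option autoImplicit false
set_option linter.unusedSectionVars false

namespace CfsgLib.GreenCuspidal.Cuspidal

open Polynomial CfsgLib.GreenCuspidal.EndBasics CfsgLib.GreenCuspidal.Green

variable {F : Type*} [Field F] [Fintype F]
variable {B : Type*} [Field B] [Algebra F B] [Fintype B]
variable {V : Type*} [AddCommGroup V] [Module F V] [Module.Finite F V]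

local notation "q" => Fintype.card F

theorem green_unipotent [Nontrivial V] (Θ : B →*₀ ℂ) {T : Module.End F V}
    (hT : IsNilpotent (T - 1)) :
    green Θ T = QBinom.cc (q : ℂ) (Module.finrank F (LinearMap.ker (T - 1))) := by
  classical
  have h1 : aeval T (minpoly F (1 : B)) = T - 1 := by
    rw [minpoly.one, map_sub, aeval_X, map_one]
  have honly : ∀ α : B, IsNilpotent (aeval T (minpoly F α)) → α = 1 := by
    intro α h
    have := congrArg (aeval α) (minpoly_eq_of_isNilpotent (α := α) (β := (1 : B)) h (h1 ▸ hT))
    rw [minpoly.aeval, minpoly.one, map_sub, aeval_X, map_one] at this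
    exact sub_eq_zero.1 this.symm
  rw [green, Finset.sum_eq_single (1 : B) (fun α _ hα => if_neg fun h => hα (honly α h))
    (fun h => absurd (Finset.mem_univ _) h)]
  rw [if_pos (h1 ▸ hT), map_one, one_mul, tt, h1, dg_one, pow_one, Nat.div_one]

section Sum

variable {W : Type*} [AddCommGroup W] [Module F W] [Fintype W]

open scoped Classical in
/-- The weights, summed over all tuples. -/
noncomputable def tupleSum (F : Type*) [Field F] [Fintype F] (W : Type*) [AddCommGroup W]
    [Module F W] [Fintype W] (l : ℕ) : ℂ :=
  ∑ X : Fin l → W, QBinom.cc (Fintype.card F : ℂ)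
    (Module.finrank F W + l - Module.finrank F (Submodule.span F (Set.range X)))

theorem cc_succ (Q : ℂ) {t : ℕ} (ht : 0 < t) :
    QBinom.cc Q (t + 1) = QBinom.cc Q t * (1 - Q ^ t) := by
  obtain ⟨t, rfl⟩ : ∃ s, t = s + 1 := ⟨t - 1, by omega⟩
  simp [QBinom.cc, Finset.prod_range_succ]

theorem tupleSum_succ (hW : 0 < Module.finrank F W) (l : ℕ) :
    tupleSum F W (l + 1) =
      (q : ℂ) ^ Module.finrank F W * (1 - (q : ℂ) ^ l) * tupleSum F W l := by
  classical
  have : Module.Finite F W := Module.Finite.of_finite
  set m := Module.finrank F W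
  rw [tupleSum, ← Equiv.sum_comp (Fin.consEquiv fun _ : Fin (l + 1) => W),
    Fintype.sum_prod_type, Finset.sum_comm, tupleSum, Finset.mul_sum]
  refine Finset.sum_congr rfl fun X _ => ?_
  set S := Submodule.span F (Set.range X) with hS
  set r := Module.finrank F S with hr
  have hrl : r ≤ l := (finrank_range_le_card X).trans_eq (Fintype.card_fin l)
  have hrm : r ≤ m := Submodule.finrank_le S
  have ht : 0 < m + l - r := by omega
  have hin : ∀ v : W, v ∈ S → Submodule.span F (Set.range (Fin.cons v X : Fin (l + 1) → W)) = S := by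
    intro v hv
    rw [Fin.range_cons, Submodule.span_insert_eq_span hv]
  have hout : ∀ v : W, v ∉ S →
      Module.finrank F (Submodule.span F (Set.range (Fin.cons v X : Fin (l + 1) → W))) = r + 1 := by
    intro v hv
    have hv0 : v ≠ 0 := fun h => hv (h ▸ S.zero_mem)
    have h2 := Submodule.finrank_sup_add_finrank_inf_eq (F ∙ v) S
    rw [finrank_span_singleton hv0, (disjoint_iff.1 ((Submodule.disjoint_span_singleton' hv0).2 hv).symm),
      finrank_bot] at h2
    rw [Fin.range_cons, Submodule.span_insert, ← hS]
    omega
  have hterm : ∀ v : W, QBinom.cc (q : ℂ) (m + (l + 1) -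
      Module.finrank F (Submodule.span F (Set.range (Fin.cons v X : Fin (l + 1) → W)))) =
      if v ∈ S then QBinom.cc (q : ℂ) (m + l - r) * (1 - (q : ℂ) ^ (m + l - r))
      else QBinom.cc (q : ℂ) (m + l - r) := by
    intro v
    split_ifs with hv
    · rw [hin v hv, ← hr, ← cc_succ _ ht]
      congr 1
      omega
    · rw [hout v hv]
      congr 1
      omega
  refine (Finset.sum_congr rfl fun v _ => hterm v).trans ?_
  rw [Finset.sum_ite, Finset.sum_const, Finset.sum_const]
  have hc1 : (Finset.univ.filter fun v : W => v ∈ S).card = q ^ r := by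
    rw [← Fintype.card_subtype]
    exact Module.card_eq_pow_finrank
  have hc2 : (Finset.univ.filter fun v : W => v ∉ S).card + q ^ r = q ^ m := by
    rw [← hc1, add_comm, Finset.card_filter_add_card_filter_not, Finset.card_univ]
    exact Module.card_eq_pow_finrank
  have hc2' : ((Finset.univ.filter fun v : W => v ∉ S).card : ℂ) =
      (q : ℂ) ^ m - (q : ℂ) ^ r := by
    rw [eq_sub_iff_add_eq]
    exact_mod_cast hc2
  rw [hc1, nsmul_eq_mul, nsmul_eq_mul, hc2']
  push_cast
  have hp : (q : ℂ) ^ r * (q : ℂ) ^ (m + l - r) = (q : ℂ) ^ m * (q : ℂ) ^ l := by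
    rw [← pow_add, ← pow_add]
    congr 1
    omega
  linear_combination -(QBinom.cc (q : ℂ) (m + l - r)) * hp

theorem tupleSum_eq_zero (hW : 0 < Module.finrank F W) : ∀ l, tupleSum F W (l + 1) = 0
  | 0 => by rw [tupleSum_succ hW]; simp
  | l + 1 => by rw [tupleSum_succ hW, tupleSum_eq_zero hW l, mul_zero]

end Sum

section Matrices

variable {F : Type*} [Field F] [Fintype F] [DecidableEq F] [Algebra F B] {m l : ℕ}

/-- The block matrix with given columns. -/
def blockMat (X : Fin l → Fin m → F) : Matrix (Fin (m + l)) (Fin (m + l)) F :=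
  fun i j => Fin.addCases (fun i' => Fin.addCases (fun _ => 0) (fun j' => X j' i') j) (fun _ => 0) i

@[simp] theorem blockMat_castAdd_natAdd (X : Fin l → Fin m → F) (i : Fin m) (j : Fin l) :
    blockMat X (Fin.castAdd l i) (Fin.natAdd m j) = X j i := by
  simp [blockMat]

@[simp] theorem blockMat_natAdd (X : Fin l → Fin m → F) (i : Fin l) (j : Fin (m + l)) :
    blockMat X (Fin.natAdd m i) j = 0 := by
  simp [blockMat]

@[simp] theorem blockMat_castAdd (X : Fin l → Fin m → F) (i : Fin (m + l)) (j : Fin m) :
    blockMat X i (Fin.castAdd l j) = 0 := by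
  induction i using Fin.addCases <;> simp [blockMat]

theorem blockMat_mul_self (X : Fin l → Fin m → F) : blockMat X * blockMat X = 0 := by
  ext i j
  rw [Matrix.mul_apply, Fin.sum_univ_add]
  simp

theorem finrank_range_blockMat (X : Fin l → Fin m → F) :
    Module.finrank F (LinearMap.range (Matrix.toLinAlgEquiv' (blockMat X))) =
      Module.finrank F (Submodule.span F (Set.range X)) := by
  let ι : (Fin m → F) →ₗ[F] (Fin (m + l) → F) :=
    { toFun := fun w => Fin.addCases w fun _ => 0
      map_add' := fun w w' => by
        funext i; induction i using Fin.addCases <;> simp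
      map_smul' := fun c w => by
        funext i; induction i using Fin.addCases <;> simp }
  have hι : Function.Injective ι := fun w w' h => funext fun i => by
    simpa [ι] using congrFun h (Fin.castAdd l i)
  have hcol : Submodule.span F (Set.range (blockMat X).col) =
      Submodule.span F (ι '' Set.range X) := by
    refine le_antisymm (Submodule.span_le.2 ?_) (Submodule.span_le.2 ?_)
    · rintro _ ⟨j, rfl⟩
      induction j using Fin.addCases with
      | left j =>
        have : (blockMat X).col (Fin.castAdd l j) = 0 := funext fun i => by simp [Matrix.col_apply]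
        rw [this]
        exact Submodule.zero_mem _
      | right j =>
        refine Submodule.subset_span ⟨X j, ⟨j, rfl⟩, funext fun i => ?_⟩
        induction i using Fin.addCases <;> simp [ι, Matrix.col_apply]
    · rintro _ ⟨_, ⟨j, rfl⟩, rfl⟩
      refine Submodule.subset_span ⟨Fin.natAdd m j, funext fun i => ?_⟩
      induction i using Fin.addCases <;> simp [ι, Matrix.col_apply]
  have hrange : LinearMap.range (Matrix.toLinAlgEquiv' (blockMat X)) =
      (Submodule.span F (Set.range X)).map ι := by
    rw [Submodule.map_span, ← hcol, ← Matrix.range_mulVecLin]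
    rfl
  rw [hrange]
  exact (Submodule.equivMapOfInjective ι hι _).finrank_eq.symm

/-- The element `1 + blockMat X`. -/
def radEquiv : {g : GL (Fin (m + l)) F // ∀ i j : Fin (m + l), ¬ (i.val < m ∧ m ≤ j.val) →
    (g : Matrix (Fin (m + l)) (Fin (m + l)) F) i j =
      (1 : Matrix (Fin (m + l)) (Fin (m + l)) F) i j} ≃ (Fin l → Fin m → F) where
  toFun g j i := (g.1 : Matrix (Fin (m + l)) (Fin (m + l)) F) (Fin.castAdd l i) (Fin.natAdd m j)
  invFun X := ⟨⟨1 + blockMat X, 1 - blockMat X,
      by rw [← (Commute.one_left (blockMat X)).mul_self_sub_mul_self_eq, blockMat_mul_self]; simp,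
      by rw [← (Commute.one_left (blockMat X)).mul_self_sub_mul_self_eq', blockMat_mul_self]; simp⟩,
    fun i j h => by
      show (1 + blockMat X : Matrix (Fin (m + l)) (Fin (m + l)) F) i j = _
      rw [Matrix.add_apply, add_eq_left]
      induction i using Fin.addCases with
      | left i =>
        induction j using Fin.addCases with
        | left j => simp
        | right j => exact absurd ⟨by simp, by simp⟩ h
      | right i => simp⟩
  left_inv g := by
    refine Subtype.ext (Units.ext (Matrix.ext fun i j => ?_))
    show (1 + blockMat _ : Matrix (Fin (m + l)) (Fin (m + l)) F) i j = _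
    rw [Matrix.add_apply]
    induction i using Fin.addCases with
    | left i =>
      induction j using Fin.addCases with
      | left j =>
        rw [blockMat_castAdd, add_zero, g.2 _ _ (by simp)]
      | right j =>
        rw [blockMat_castAdd_natAdd, Matrix.one_apply_ne (by
          intro h; have := congrArg Fin.val h; simp at this; omega), zero_add]
    | right i =>
      rw [blockMat_natAdd, add_zero, g.2 _ _ (by simp)]
  right_inv X := by
    funext j i
    show (1 + blockMat X : Matrix (Fin (m + l)) (Fin (m + l)) F) _ _ = _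
    rw [Matrix.add_apply, blockMat_castAdd_natAdd, Matrix.one_apply_ne (by
      intro h; have := congrArg Fin.val h; simp at this; omega), zero_add]

set_option maxHeartbeats 1000000 in
open scoped Classical in
/-- **Cuspidality**: Green's function has zero sum over each standard unipotent radical. -/
theorem sum_radical_green (Θ : B →*₀ ℂ) (hm : 0 < m) (hl : 0 < l) :
    (∑ g : GL (Fin (m + l)) F,
      if (∀ i j : Fin (m + l), ¬ (i.val < m ∧ m ≤ j.val) →
        (g : Matrix (Fin (m + l)) (Fin (m + l)) F) i j =
          (1 : Matrix (Fin (m + l)) (Fin (m + l)) F) i j)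
      then green Θ (Matrix.toLinAlgEquiv' (g : Matrix (Fin (m + l)) (Fin (m + l)) F)) else 0) = 0 := by
  classical
  have : Nonempty (Fin (m + l)) := ⟨⟨0, by omega⟩⟩
  rw [← Finset.sum_filter,
    Finset.sum_subtype _ (fun g => by simp only [Finset.mem_filter, Finset.mem_univ, true_and]; rfl)
      (fun g : GL (Fin (m + l)) F =>
        green Θ (Matrix.toLinAlgEquiv' (g : Matrix (Fin (m + l)) (Fin (m + l)) F))),
    ← Equiv.sum_comp radEquiv.symm]
  obtain ⟨k, rfl⟩ : ∃ k, l = k + 1 := ⟨l - 1, by omega⟩
  have hW : 0 < Module.finrank F (Fin m → F) := by rw [Module.finrank_fin_fun]; exact hm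
  rw [← tupleSum_eq_zero (F := F) (W := Fin m → F) hW k, tupleSum]
  refine Finset.sum_congr rfl fun X _ => ?_
  show green Θ (Matrix.toLinAlgEquiv' (1 + blockMat X)) = _
  have hsub : Matrix.toLinAlgEquiv' (1 + blockMat X) - 1 = Matrix.toLinAlgEquiv' (blockMat X) := by
    rw [map_add, map_one, add_sub_cancel_left]
  refine (green_unipotent (V := Fin (m + (k + 1)) → F) Θ
    (by rw [hsub]; exact ⟨2, by rw [pow_two, ← map_mul, blockMat_mul_self, map_zero]⟩)).trans ?_
  rw [hsub]
  have h := LinearMap.finrank_range_add_finrank_ker (Matrix.toLinAlgEquiv' (blockMat X))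
  rw [finrank_range_blockMat, Module.finrank_fin_fun] at h
  rw [Module.finrank_fin_fun]
  congr 1
  omega

end Matrices

end CfsgLib.GreenCuspidal.Cuspidal
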