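import Cfsg.Agent.Lib.GreenCuspidal.Virtual
import Cfsg.Agent.Lib.GreenCuspidal.Cuspidal
import Cfsg.Agent.Lib.CharDeep.GenChar
import Mathlib.FieldTheory.Finite.Extension
import Mathlib.GroupTheory.SpecificGroups.Cyclic
import Mathlib.Data.Nat.Totient
import Mathlib.LinearAlgebra.Matrix.GeneralLinearGroup.Card

/-!
# Counting cuspidal characters
-/

set_option autoImplicit false
set_option linter.unusedSectionVars false

namespace CfsgLib.GreenCuspidal.Count

open CfsgLib.GreenCuspidal.EndBasics CfsgLib.GreenCuspidal.Green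
open scoped ComplexConjugate

universe u

variable {F : Type u} [Field F] [Fintype F]

local notation "q" => Fintype.card F

section Theta

variable {B : Type*} [Field B] [Fintype B]

/-- A faithful multiplicative character, raised to the power `j`. -/
noncomputable def theta (ψ : Bˣ →* ℂˣ) (j : ℕ) : B →*₀ ℂ :=
  by classical exact
  { toFun := fun x => if h : x = 0 then 0 else ((ψ (Units.mk0 x h) : ℂˣ) : ℂ) ^ j
    map_zero' := dif_pos rfl
    map_one' := by rw [dif_neg one_ne_zero, Units.mk0_one, map_one, Units.val_one, one_pow]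
    map_mul' := fun x y => by
      rcases eq_or_ne x 0 with rfl | hx
      · simp
      rcases eq_or_ne y 0 with rfl | hy
      · simp
      rw [dif_neg hx, dif_neg hy, dif_neg (mul_ne_zero hx hy), Units.mk0_mul, map_mul,
        Units.val_mul, mul_pow] }

theorem theta_unit (ψ : Bˣ →* ℂˣ) (j : ℕ) (x : Bˣ) :
    theta ψ j (x : B) = ((ψ x : ℂˣ) : ℂ) ^ j := by
  classical
  show dite _ _ _ = _
  rw [dif_neg x.ne_zero, Units.mk0_val]

theorem exists_injective_hom : ∃ ψ : Bˣ →* ℂˣ, Function.Injective ψ := by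
  obtain ⟨g, hg⟩ := IsCyclic.exists_generator (α := Bˣ)
  have hne : NeZero (orderOf g) := ⟨(orderOf_pos g).ne'⟩
  have hz := Complex.isPrimitiveRoot_exp (orderOf g) hne.out
  obtain ⟨z, hzu⟩ := hz.isUnit hne.out
  have hz' : IsPrimitiveRoot z (orderOf g) := by
    rw [← IsPrimitiveRoot.coe_units_iff, hzu]
    exact hz
  refine ⟨monoidHomOfForallMemZpowers hg (g' := z) hz'.eq_orderOf.symm.dvd,
    (injective_iff_map_eq_one _).2 fun x hx => ?_⟩
  obtain ⟨k, rfl⟩ := Subgroup.mem_zpowers_iff.1 (hg x)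
  rw [map_zpow, monoidHomOfForallMemZpowers_apply_gen] at hx
  exact orderOf_dvd_iff_zpow_eq_one.1 ((hz'.zpow_eq_one_iff_dvd k).1 hx)

theorem geom_sum_of_pow_eq_one {z : ℂ} {N : ℕ} (hz : z ^ N = 1) :
    ∑ e ∈ Finset.range N, z ^ e = if z = 1 then (N : ℂ) else 0 := by
  split_ifs with h
  · simp [h]
  · rw [geom_sum_eq h, hz, sub_self, zero_div]

open scoped Classical in
/-- The inner product of two characters of the subfield with `q ^ n` elements. -/
theorem sum_subfield [Algebra F B] {n : ℕ} (hn : n ≠ 0) (hdvd : q ^ n - 1 ∣ Fintype.card B - 1)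
    {ψ : Bˣ →* ℂˣ} (hψ : Function.Injective ψ) {j k : ℕ} (hj : j < q ^ n - 1) (hj0 : j ≠ 0)
    (i : ℕ) :
    ∑ α : B, (if α ^ q ^ n = α then theta ψ j α * conj (theta ψ k (α ^ q ^ i)) else 0) =
      if j = k * q ^ i % (q ^ n - 1) then ((q ^ n - 1 : ℕ) : ℂ) else 0 := by
  set N := q ^ n - 1 with hN
  have hN0 : 0 < N := by omega
  have hqn : q ^ n = N + 1 := by omega
  obtain ⟨g, hg⟩ := IsCyclic.exists_generator (α := Bˣ)
  have hog : orderOf g = Fintype.card B - 1 := by
    rw [orderOf_eq_card_of_forall_mem_zpowers hg, Nat.card_eq_fintype_card, Fintype.card_units]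
  obtain ⟨c, hc⟩ := hdvd
  set u₀ := g ^ c with hu₀
  have hog' : orderOf u₀ = N := by
    have hc0 : c ≠ 0 := by
      rintro rfl
      have := Fintype.one_lt_card (α := B)
      simp only [mul_zero] at hc
      omega
    rw [hu₀, orderOf_pow_of_dvd hc0 (by rw [hog, hc]; exact dvd_mul_left c N), hog, hc,
      Nat.mul_div_cancel _ (Nat.pos_of_ne_zero hc0)]
  set ζ : ℂ := ((ψ u₀ : ℂˣ) : ℂ) with hζ
  have hprim : IsPrimitiveRoot ζ N := by
    have h1 := IsPrimitiveRoot.orderOf ((ψ u₀ : ℂˣ) : ℂ)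
    rwa [orderOf_units, orderOf_injective ψ hψ, hog'] at h1
  have hconj : conj ζ = ζ⁻¹ :=
    (Complex.inv_eq_conj (Complex.norm_eq_one_of_pow_eq_one hprim.pow_eq_one hN0.ne')).symm
  set z : ℂ := ζ ^ j * (ζ⁻¹) ^ (k * q ^ i) with hz
  have hzN : z ^ N = 1 := by
    rw [hz, mul_pow, ← pow_mul, ← pow_mul, mul_comm j, mul_comm (k * q ^ i), pow_mul, pow_mul,
      inv_pow, hprim.pow_eq_one, inv_one, one_pow, one_pow, mul_one]
  have hz1 : z = 1 ↔ j = k * q ^ i % N := by
    rw [hz, inv_pow, ← div_eq_mul_inv, div_eq_one_iff_eq (pow_ne_zero _ (hprim.ne_zero hN0.ne')),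
      ← pow_mod_orderOf ζ (k * q ^ i), ← hprim.eq_orderOf]
    exact ⟨fun h => hprim.pow_inj hj (Nat.mod_lt _ hN0) h, fun h => by rw [h]⟩
  have hval : ∀ e : ℕ, theta ψ j ((u₀ ^ e : Bˣ) : B) *
      conj (theta ψ k (((u₀ ^ e : Bˣ) : B) ^ q ^ i)) = z ^ e := by
    intro e
    rw [← Units.val_pow_eq_pow_val (u₀ ^ e), theta_unit, theta_unit]
    simp only [map_pow, Units.val_pow_eq_pow_val, ← hζ, hconj]
    rw [hz]
    ring
  rw [← Finset.sum_filter, ← if_congr hz1 rfl rfl, ← geom_sum_of_pow_eq_one hzN]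
  have hsplit : (Finset.univ.filter fun α : B => α ^ q ^ n = α) =
      insert 0 ((Finset.range N).image fun e => ((u₀ ^ e : Bˣ) : B)) := by
    have hsub : insert (0 : B) ((Finset.range N).image fun e => ((u₀ ^ e : Bˣ) : B)) ⊆
        Finset.univ.filter fun α : B => α ^ q ^ n = α := by
      intro α hα
      refine Finset.mem_filter.2 ⟨Finset.mem_univ _, ?_⟩
      rcases Finset.mem_insert.1 hα with rfl | hα
      · exact zero_pow (by omega)
      · obtain ⟨e, -, rfl⟩ := Finset.mem_image.1 hα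
        rw [← Units.val_pow_eq_pow_val]
        congr 1
        rw [hqn, pow_succ, ← hog', ← pow_mul, mul_comm e, pow_mul, pow_orderOf_eq_one, one_pow,
          one_mul]
    refine (Finset.eq_of_subset_of_card_le hsub ?_).symm
    have hinj : Set.InjOn (fun e => ((u₀ ^ e : Bˣ) : B)) (Finset.range N) := fun a ha b hb h =>
      pow_injOn_Iio_orderOf (by simpa [hog'] using ha) (by simpa [hog'] using hb) (Units.ext h)
    rw [Finset.card_insert_of_notMem (by
        intro h
        obtain ⟨e, -, he⟩ := Finset.mem_image.1 h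
        exact (u₀ ^ e).ne_zero he),
      Finset.card_image_of_injOn hinj, Finset.card_range]
    have h1 : 1 < q ^ n := by omega
    refine le_trans (Finset.card_le_card
      (t := ((Polynomial.X ^ q ^ n - Polynomial.X : Polynomial B)).roots.toFinset) fun α hα => ?_) ?_
    · rw [Multiset.mem_toFinset, Polynomial.mem_roots (FiniteField.X_pow_card_sub_X_ne_zero B h1)]
      simp [Polynomial.IsRoot.def, (Finset.mem_filter.1 hα).2]
    · refine (Multiset.toFinset_card_le _).trans ((Polynomial.card_roots' _).trans ?_)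
      rw [FiniteField.X_pow_card_sub_X_natDegree_eq B h1, hqn]
  rw [hsplit, Finset.sum_insert (by
      intro h
      obtain ⟨e, -, he⟩ := Finset.mem_image.1 h
      exact (u₀ ^ e).ne_zero he), map_zero, zero_mul, zero_add,
    Finset.sum_image fun a ha b hb h =>
      pow_injOn_Iio_orderOf (by simpa [hog'] using ha) (by simpa [hog'] using hb) (Units.ext h)]
  exact Finset.sum_congr rfl fun e _ => hval e

end Theta

section Main

variable [DecidableEq F] {n : ℕ}

/-- `GL_n` as the units of the endomorphism ring. -/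
noncomputable def toUnitsEnd : GL (Fin n) F ≃* (Module.End F (Fin n → F))ˣ :=
  Units.mapEquiv (Matrix.toLinAlgEquiv' (R := F) (n := Fin n)).toMulEquiv

theorem toUnitsEnd_coe (g : GL (Fin n) F) :
    ((toUnitsEnd g : (Module.End F (Fin n → F))ˣ) : Module.End F (Fin n → F)) =
      Matrix.toLinAlgEquiv' (g : Matrix (Fin n) (Fin n) F) := rfl

theorem card_GL_eq_ind :
    (Nat.card (GL (Fin n) F) : ℂ) = QBinom.ind (q : ℂ) ((q : ℂ) ^ n) n := by
  rw [Matrix.card_GL_field, QBinom.ind, Nat.cast_prod, ← Fin.prod_univ_eq_prod_range]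
  refine Finset.prod_congr rfl fun i _ => ?_
  rw [Nat.cast_sub (Nat.pow_le_pow_right Fintype.card_pos i.2.le)]
  push_cast
  rfl

open scoped Classical in
theorem count (n : ℕ) (hn : 2 ≤ n) :
    Nat.totient (Fintype.card F ^ n - 1) / n ≤
      Nat.card {χ : Cfsg.IrrCharacter (GL (Fin n) F) //
        (χ : GL (Fin n) F → ℂ) 1 = ∏ i ∈ Finset.Ico 1 n, ((Fintype.card F : ℂ) ^ i - 1) ∧
        ∀ m : ℕ, 0 < m → m < n →
          (∑ g : GL (Fin n) F,
            if (∀ i j : Fin n, ¬ (i.val < m ∧ m ≤ j.val) →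
              (g : Matrix (Fin n) (Fin n) F) i j = (1 : Matrix (Fin n) (Fin n) F) i j)
            then (χ : GL (Fin n) F → ℂ) g else 0) = 0} := by
  obtain ⟨p, hchar⟩ := CharP.exists F
  have hp : Fact p.Prime := ⟨CharP.char_is_prime F p⟩
  have : NeZero n.factorial := ⟨n.factorial_ne_zero⟩
  let B := FiniteField.Extension F p n.factorial
  let : Fintype B := Fintype.ofFinite B
  have hfin : Module.finrank F B = n.factorial := FiniteField.finrank_extension F p n.factorial
  have hB : ∀ m, 0 < m → m ≤ Module.finrank F (Fin n → F) →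
      ∃ M : IntermediateField F B, Module.finrank F M = m := by
    intro m hm hmn
    rw [Module.finrank_fin_fun] at hmn
    have : NeZero m := ⟨hm.ne'⟩
    obtain ⟨f⟩ := FiniteField.nonempty_algHom_of_finrank_dvd (F := F)
      (K := FiniteField.Extension F p m) (L := B)
      (by rw [FiniteField.finrank_extension, hfin]; exact Nat.dvd_factorial hm hmn)
    exact ⟨f.fieldRange, ((AlgEquiv.ofInjectiveField f).toLinearEquiv.finrank_eq).symm.trans
      (FiniteField.finrank_extension F p m)⟩
  have hnfin : Module.finrank F (Fin n → F) = n := Module.finrank_fin_fun F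
  have : Nonempty (Fin n) := ⟨⟨0, by omega⟩⟩
  have : Finite (Module.End F (Fin n → F)) :=
    Finite.of_injective (fun f => (f : (Fin n → F) → (Fin n → F))) DFunLike.coe_injective
  let : Fintype (Module.End F (Fin n → F)) := Fintype.ofFinite _
  set N := q ^ n - 1 with hN
  have hqn : 3 < q ^ n :=
    calc 3 < 2 ^ 2 := by norm_num
      _ ≤ q ^ 2 := Nat.pow_le_pow_left Fintype.one_lt_card 2
      _ ≤ q ^ n := Nat.pow_le_pow_right Fintype.card_pos hn
  have hdvd : N ∣ Fintype.card B - 1 := by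
    rw [Module.card_eq_pow_finrank (K := F) (V := B), hfin]
    exact Nat.pow_sub_one_dvd_pow_sub_one q (Nat.dvd_factorial (by omega) le_rfl)
  obtain ⟨ψ, hψ⟩ := exists_injective_hom (B := B)
  let S : ℂ := (-1) ^ (n - 1)
  let φ : ℕ → GL (Fin n) F → ℂ := fun j g =>
    S * green (theta ψ j) (Matrix.toLinAlgEquiv' (g : Matrix (Fin n) (Fin n) F))
  let J : Finset ℕ := (Finset.range N).filter fun j => Nat.Coprime N j
  have hJ0 : ∀ j ∈ J, j ≠ 0 := by
    intro j hj h
    have := (Finset.mem_filter.1 hj).2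
    rw [h, Nat.coprime_zero_right] at this
    omega
  have hgen : ∀ j, Cfsg.IsGeneralizedCharacter (GL (Fin n) F) (φ j) := by
    intro j
    have h1 := VirtualTools.gen_comp (Virtual.gen_green (theta ψ j) hB)
      (toUnitsEnd (F := F) (n := n)).toMonoidHom
    have h2 := VirtualTools.gen_mul
      (VirtualTools.gen_intCast (A := GL (Fin n) F) ((-1) ^ (n - 1))) h1
    convert h2 using 1
    funext g
    show S * _ = _
    push_cast
    rfl
  have hsum : ∀ j k, ∑ g : GL (Fin n) F,
      green (theta ψ j) (Matrix.toLinAlgEquiv' (g : Matrix (Fin n) (Fin n) F)) *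
        conj (green (theta ψ k) (Matrix.toLinAlgEquiv' (g : Matrix (Fin n) (Fin n) F))) =
      ∑ T : Module.End F (Fin n → F), green (theta ψ j) T * conj (green (theta ψ k) T) := by
    intro j k
    rw [← Finset.sum_filter_of_ne (p := fun T : Module.End F (Fin n → F) => IsUnit T) fun T _ h => by
      by_contra hT
      rw [green_eq_zero_of_not_isUnit _ hT, zero_mul] at h
      exact h rfl]
    refine Finset.sum_bij (fun g _ => ((toUnitsEnd g : (Module.End F (Fin n → F))ˣ) : _))
      (fun g _ => Finset.mem_filter.2 ⟨Finset.mem_univ _, Units.isUnit _⟩)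
      (fun a _ b _ h => (toUnitsEnd (F := F) (n := n)).injective (Units.ext h))
      (fun T hT => ⟨(toUnitsEnd (F := F) (n := n)).symm (Finset.mem_filter.1 hT).2.unit,
        Finset.mem_univ _, by rw [MulEquiv.apply_symm_apply]; rfl⟩) fun g _ => rfl
  have hinner : ∀ j ∈ J, ∀ k ∈ J, Cfsg.classInner (φ j) (φ k) =
      ((Finset.range n).filter fun i => j = k * q ^ i % N).card := by
    intro j hj k hk
    have hjN : j < N := Finset.mem_range.1 (Finset.mem_filter.1 hj).1
    have h := sum_green_mul (F := F) (V := Fin n → F) (theta ψ j) (theta ψ k)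
    rw [hnfin, ← hsum j k, ← card_GL_eq_ind] at h
    rw [Finset.sum_congr rfl fun i _ =>
        sum_subfield (by omega) hdvd hψ hjN (hJ0 j hj) i,
      ← Finset.sum_filter, Finset.sum_const, nsmul_eq_mul] at h
    have hq1 : (q : ℂ) ^ n - 1 = ((q ^ n - 1 : ℕ) : ℂ) := by
      rw [Nat.cast_sub (by omega)]
      push_cast
      rfl
    rw [hq1, ← hN] at h
    have hN0 : ((N : ℕ) : ℂ) ≠ 0 := Nat.cast_ne_zero.2 (by omega)
    have hS : S * conj S = 1 := by
      simp only [S, map_pow, map_neg, map_one, ← mul_pow, neg_mul_neg, one_mul, one_pow]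
    rw [Cfsg.classInner]
    simp only [φ, map_mul]
    simp only [mul_mul_mul_comm S _ (conj S), hS, one_mul]
    refine mul_left_cancel₀ hN0 ?_
    rw [mul_left_comm, h, ← mul_assoc, inv_mul_cancel₀ Char.card_ne_zero, one_mul, mul_comm]
  have hnorm : ∀ j ∈ J, Cfsg.classInner (φ j) (φ j) = 1 := by
    intro j hj
    rw [hinner j hj j hj]
    have hjN : j < N := Finset.mem_range.1 (Finset.mem_filter.1 hj).1
    have : ((Finset.range n).filter fun i => j = j * q ^ i % N) = {0} := by
      ext i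
      simp only [Finset.mem_filter, Finset.mem_range, Finset.mem_singleton]
      refine ⟨fun ⟨hi, h⟩ => ?_, ?_⟩
      · by_contra hi0
        have h1 : j * 1 ≡ j * q ^ i [MOD N] := by
          rw [Nat.ModEq, mul_one, ← h, Nat.mod_eq_of_lt hjN]
        have h2 := Nat.ModEq.cancel_left_of_coprime (c := j) (Finset.mem_filter.1 hj).2 h1
        have hlt : q ^ i < N := by
          have h3 : 2 * q ^ i ≤ q ^ n :=
            calc 2 * q ^ i ≤ q * q ^ i := Nat.mul_le_mul_right _ Fintype.one_lt_card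
              _ = q ^ (i + 1) := by ring
              _ ≤ q ^ n := Nat.pow_le_pow_right Fintype.card_pos hi
          have h4 : 1 < q ^ i := Nat.one_lt_pow hi0 Fintype.one_lt_card
          omega
        have h4 : 1 < q ^ i := Nat.one_lt_pow hi0 Fintype.one_lt_card
        rw [Nat.ModEq, Nat.mod_eq_of_lt (by omega), Nat.mod_eq_of_lt hlt] at h2
        omega
      · rintro rfl
        exact ⟨by omega, by rw [pow_zero, mul_one, Nat.mod_eq_of_lt hjN]⟩
    rw [this]
    simp
  have hdeg : ∀ j, φ j 1 = ∏ i ∈ Finset.Ico 1 n, ((q : ℂ) ^ i - 1) := by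
    intro j
    show S * _ = _
    rw [Units.val_one, map_one, green_one, hnfin, QBinom.cc, Finset.prod_Ico_eq_prod_range]
    conv_lhs => arg 1; rw [show S = (-1 : ℂ) ^ (Finset.range (n - 1)).card by
      rw [Finset.card_range]]
    rw [← Finset.prod_const, ← Finset.prod_mul_distrib]
    exact Finset.prod_congr rfl fun i _ => by ring
  have hpos : ∀ j, 0 < (φ j 1).re := by
    intro j
    rw [hdeg, show (∏ i ∈ Finset.Ico 1 n, ((q : ℂ) ^ i - 1)) =
      ((∏ i ∈ Finset.Ico 1 n, ((q : ℝ) ^ i - 1) : ℝ) : ℂ) by push_cast; rfl, Complex.ofReal_re]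
    refine Finset.prod_pos fun i hi => sub_pos.2 (one_lt_pow₀ ?_ (by
      have := (Finset.mem_Ico.1 hi).1; omega))
    exact_mod_cast Fintype.one_lt_card
  have hirr : ∀ j ∈ J, Cfsg.IsIrrCharacter (GL (Fin n) F) (φ j) := fun j hj =>
    CharDeep.GenChar.isIrrCharacter_of_norm_one (hgen j) (hnorm j hj) (hpos j)
  have hcusp : ∀ j, ∀ m : ℕ, 0 < m → m < n →
      (∑ g : GL (Fin n) F, if (∀ i i' : Fin n, ¬ (i.val < m ∧ m ≤ i'.val) →
        (g : Matrix (Fin n) (Fin n) F) i i' = (1 : Matrix (Fin n) (Fin n) F) i i')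
        then φ j g else 0) = 0 := by
    intro j m hm hmn
    obtain ⟨l, rfl⟩ := Nat.exists_eq_add_of_le hmn.le
    have h := Cuspidal.sum_radical_green (F := F) (B := B) (theta ψ j) hm (l := l) (by omega)
    refine Eq.trans ?_ (mul_eq_zero_of_right S h)
    rw [Finset.mul_sum]
    exact Finset.sum_congr rfl fun g _ => by split_ifs <;> simp [φ]
  let P : Cfsg.IrrCharacter (GL (Fin n) F) → Prop := fun χ =>
    (χ : GL (Fin n) F → ℂ) 1 = ∏ i ∈ Finset.Ico 1 n, ((Fintype.card F : ℂ) ^ i - 1) ∧
      ∀ m : ℕ, 0 < m → m < n →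
        (∑ g : GL (Fin n) F,
          if (∀ i j : Fin n, ¬ (i.val < m ∧ m ≤ j.val) →
            (g : Matrix (Fin n) (Fin n) F) i j = (1 : Matrix (Fin n) (Fin n) F) i j)
          then (χ : GL (Fin n) F → ℂ) g else 0) = 0
  have : Finite (Cfsg.IrrCharacter (GL (Fin n) F)) := (Char.finite_setOf_irr).to_subtype
  let : Fintype {χ // P χ} := Fintype.ofFinite _
  let Φ : {j // j ∈ J} → {χ // P χ} := fun j =>
    ⟨⟨φ j.1, hirr j.1 j.2⟩, hdeg j.1, hcusp j.1⟩
  have hfib : ∀ x : {χ // P χ}, (Finset.univ.filter fun j => Φ j = x).card ≤ n := by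
    intro x
    rcases (Finset.univ.filter fun j => Φ j = x).eq_empty_or_nonempty with h | ⟨k, hk⟩
    · rw [h]; exact Nat.zero_le _
    refine le_trans ?_ ((Finset.card_image_le
      (f := fun i => k.1 * q ^ i % N) (s := Finset.range n)).trans_eq (Finset.card_range n))
    refine Finset.card_le_card_of_injOn Subtype.val (fun j hj => ?_) Subtype.val_injective.injOn
    have he : φ j.1 = φ k.1 := congrArg (fun y : {χ // P χ} => (y.1 : GL (Fin n) F → ℂ))
      ((Finset.mem_filter.1 hj).2.trans (Finset.mem_filter.1 hk).2.symm)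
    have h1 : Cfsg.classInner (φ j.1) (φ k.1) = 1 := by
      rw [← he]
      exact hnorm j.1 j.2
    rw [hinner j.1 j.2 k.1 k.2, Nat.cast_eq_one, Finset.card_eq_one] at h1
    obtain ⟨i, hi⟩ := h1
    have hi' := Finset.mem_filter.1 (hi ▸ Finset.mem_singleton_self i)
    exact Finset.mem_image.2 ⟨i, hi'.1, hi'.2.symm⟩
  have hcount := Finset.card_le_mul_card_image (f := Φ) Finset.univ n fun x _ => hfib x
  rw [Finset.card_univ, Fintype.card_coe] at hcount
  have hJcard : J.card = Nat.totient N := (Nat.totient_eq_card_coprime N).symm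
  rw [hJcard] at hcount
  refine Nat.div_le_of_le_mul (hcount.trans (Nat.mul_le_mul_left n ?_))
  rw [Nat.card_eq_fintype_card]
  exact Finset.card_le_univ _

end Main

end CfsgLib.GreenCuspidal.Count
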