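import Mathlib.FieldTheory.Finite.Basic
import Mathlib.FieldTheory.IntermediateField.Adjoin.Basic
import Mathlib.LinearAlgebra.Eigenspace.Zero
import Mathlib.LinearAlgebra.Matrix.GeneralLinearGroup.Card
import Mathlib.Algebra.CharP.Algebra
import Mathlib.Algebra.CharP.Lemmas
import Mathlib.RingTheory.PowerBasis

/-!
# Endomorphisms killed by powers of an irreducible polynomial over a finite field
-/

set_option autoImplicit false

namespace CfsgLib.GreenCuspidal.EndBasics

open Polynomial

variable {F : Type*} [Field F] [Fintype F]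

local notation "q" => Fintype.card F

theorem aeval_pow_card_pow {A : Type*} [Ring A] [Algebra F A] (T : A) (f : F[X]) :
    ∀ e : ℕ, aeval (T ^ q ^ e) f = aeval T f ^ q ^ e
  | 0 => by simp
  | e + 1 => by
    rw [pow_succ q e, pow_mul, ← expand_aeval, FiniteField.expand_card, map_pow,
      aeval_pow_card_pow T f e, ← pow_mul]

section Field

variable {B : Type*} [Field B] [Algebra F B] [Finite B] (α : B)

/-- The degree of `α` over the finite field `F`. -/
noncomputable def dg (F : Type*) [Field F] {B : Type*} [Field B] [Algebra F B] (α : B) : ℕ :=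
  (minpoly F α).natDegree

theorem isIntegral' : IsIntegral F α := Algebra.IsIntegral.isIntegral α

theorem dg_pos : 0 < dg F α := minpoly.natDegree_pos (isIntegral' α)

theorem finrank_adjoin :
    Module.finrank F (IntermediateField.adjoin F ({α} : Set B)) = dg F α :=
  IntermediateField.adjoin.finrank (isIntegral' α)

theorem card_adjoin :
    Nat.card (IntermediateField.adjoin F ({α} : Set B)) = q ^ dg F α := by
  rw [← finrank_adjoin α, ← Nat.card_eq_fintype_card]
  exact Module.natCard_eq_pow_finrank

theorem pow_card_pow_dg (i : ℕ) : α ^ q ^ (dg F α * i) = α := by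
  let K := IntermediateField.adjoin F ({α} : Set B)
  let : Fintype K := Fintype.ofFinite K
  have hK : Fintype.card K = q ^ dg F α := by
    rw [← Nat.card_eq_fintype_card]; exact card_adjoin α
  have h := FiniteField.pow_card_pow i
    (⟨α, IntermediateField.mem_adjoin_simple_self F α⟩ : K)
  rw [hK, ← pow_mul] at h
  simpa using congrArg Subtype.val h

theorem minpoly_dvd_X_pow (i : ℕ) :
    minpoly F α ∣ (X ^ q ^ (dg F α * i) - X : F[X]) :=
  minpoly.dvd F α (by simp [pow_card_pow_dg α i])

variable {α}

theorem pow_eq_self_of_aeval_eq_zero {A : Type*} [Ring A] [Algebra F A] {s : A}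
    (hs : aeval s (minpoly F α) = 0) (i : ℕ) : s ^ q ^ (dg F α * i) = s := by
  obtain ⟨c, hc⟩ := minpoly_dvd_X_pow (F := F) α i
  have h := congrArg (aeval s) hc
  rw [map_mul, hs, zero_mul] at h
  simpa [sub_eq_zero] using h

variable {V : Type*} [AddCommGroup V] [Module F V]

local notation "End'" => Module.End F V

variable [Module.Finite F V]

theorem add_pow_card_pow {x y : End'} (h : Commute x y) (e : ℕ) :
    (x + y) ^ q ^ e = x ^ q ^ e + y ^ q ^ e := by
  rcases subsingleton_or_nontrivial V with hV | hV
  · exact Subsingleton.elim _ _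
  obtain ⟨p, hp⟩ := CharP.exists F
  obtain ⟨a, hpp, ha⟩ := FiniteField.card F p
  have : Fact p.Prime := ⟨hpp⟩
  have : CharP End' p :=
    charP_of_injective_algebraMap (algebraMap F End').injective p
  rw [ha, ← pow_mul]
  exact add_pow_char_pow_of_commute p _ h

theorem pow_eq_zero_of_isNilpotent {δ : End'} (h : IsNilpotent δ) {N : ℕ}
    (hN : Module.finrank F V ≤ N) : δ ^ N = 0 := by
  have h1 : δ ^ Module.finrank F V = 0 := by
    have := LinearMap.aeval_self_charpoly δ
    rw [(LinearMap.isNilpotent_iff_charpoly δ).1 h] at this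
    simpa using this
  exact pow_eq_zero_of_le hN h1

/-- The exponent used to extract semisimple parts. -/
noncomputable def ex (F : Type*) [Field F] {B : Type*} [Field B] [Algebra F B] (α : B)
    (V : Type*) [AddCommGroup V] [Module F V] : ℕ :=
  dg F α * (Module.finrank F V + 1)

theorem finrank_le_q_ex : Module.finrank F V ≤ q ^ ex F α V := by
  refine le_trans ?_ (Nat.lt_pow_self Fintype.one_lt_card).le
  exact (Nat.le_succ _).trans (Nat.le_mul_of_pos_left _ (dg_pos α))

section Extract

variable {T : Module.End F V}

/-- The semisimple part of `T`, when `minpoly F α` is nilpotent at `T`. -/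
noncomputable def ssPart (α : B) (T : Module.End F V) : Module.End F V :=
  T ^ q ^ ex F α V

theorem aeval_ssPart (hT : IsNilpotent (aeval T (minpoly F α))) :
    aeval (ssPart α T) (minpoly F α) = 0 := by
  rw [ssPart, aeval_pow_card_pow]
  exact pow_eq_zero_of_isNilpotent hT finrank_le_q_ex

theorem isNilpotent_sub_ssPart (hT : IsNilpotent (aeval T (minpoly F α))) :
    IsNilpotent (T - ssPart α T) := by
  obtain ⟨c, hc⟩ := minpoly_dvd_X_pow (F := F) α (Module.finrank F V + 1)
  have h := congrArg (aeval T) hc
  simp only [map_sub, map_pow, aeval_X, map_mul] at h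
  rw [← neg_sub, show ssPart α T = T ^ q ^ (dg F α * (Module.finrank F V + 1)) from rfl, h]
  exact (Commute.isNilpotent_mul_right
    ((Commute.all (minpoly F α) c).map (aeval T : F[X] →ₐ[F] Module.End F V)) hT).neg

theorem commute_sub_ssPart : Commute (T - ssPart α T) (ssPart α T) :=
  Commute.sub_left ((Commute.refl T).pow_right _) (Commute.refl _)

variable {s δ : Module.End F V}

theorem ssPart_add (hs : aeval s (minpoly F α) = 0) (hδ : IsNilpotent δ) (hc : Commute δ s) :
    ssPart α (s + δ) = s := by
  rw [ssPart, add_pow_card_pow hc.symm, pow_eq_zero_of_isNilpotent hδ finrank_le_q_ex, add_zero]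
  exact pow_eq_self_of_aeval_eq_zero hs _

theorem isNilpotent_aeval_add (hs : aeval s (minpoly F α) = 0) (hδ : IsNilpotent δ)
    (hc : Commute δ s) : IsNilpotent (aeval (s + δ) (minpoly F α)) := by
  refine ⟨q ^ ex F α V, ?_⟩
  rw [← aeval_pow_card_pow, show (s + δ) ^ q ^ ex F α V = ssPart α (s + δ) from rfl,
    ssPart_add hs hδ hc, hs]

/-- The kernel of `minpoly F α` at `s + δ` is the kernel of the nilpotent part. -/
theorem ker_aeval_add (hs : aeval s (minpoly F α) = 0) (hδ : IsNilpotent δ) (hc : Commute δ s) :
    LinearMap.ker (aeval (s + δ) (minpoly F α)) = LinearMap.ker δ := by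
  ext v
  rw [LinearMap.mem_ker, LinearMap.mem_ker]
  constructor
  · intro hv
    obtain ⟨c, hc'⟩ := minpoly_dvd_X_pow (F := F) α (Module.finrank F V + 1)
    replace hc' := hc'.trans (mul_comm _ _)
    have h := congrArg (fun f => aeval (s + δ) f v) hc'
    simp only [map_sub, map_pow, aeval_X, map_mul, Module.End.mul_apply, LinearMap.sub_apply,
      hv, map_zero] at h
    rw [show (s + δ) ^ q ^ (dg F α * (Module.finrank F V + 1)) = ssPart α (s + δ) from rfl,
      ssPart_add hs hδ hc, sub_eq_zero, LinearMap.add_apply] at h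
    simpa using h.symm
  · intro hv
    have hpow : ∀ i : ℕ, ((s + δ) ^ i) v = (s ^ i) v := by
      intro i
      induction i with
      | zero => rfl
      | succ i ih =>
        rw [pow_succ', Module.End.mul_apply, ih, LinearMap.add_apply]
        have h1 : δ ((s ^ i) v) = (s ^ i) (δ v) := congrArg (fun e : End' => e v) (hc.pow_right i).eq
        rw [h1, hv, map_zero, add_zero, pow_succ', Module.End.mul_apply]
    have : aeval (s + δ) (minpoly F α) v = aeval s (minpoly F α) v := by
      simp only [aeval_eq_sum_range, LinearMap.sum_apply, LinearMap.smul_apply, hpow]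
    rw [this, hs, LinearMap.zero_apply]

end Extract

section Coprime

variable {a u : Module.End F V}

/-- For `a` of order prime to the characteristic and commuting unipotent `u`: being killed by a
power of `minpoly F α` at `a * u` means being killed by it at `a`. -/
theorem aeval_eq_zero_of_isNilpotent {p : ℕ} [Fact p.Prime] [CharP F p] {M : ℕ}
    (hM : ¬ p ∣ M) (ha : a ^ M = 1) (hu : IsNilpotent (u - 1)) (hc : Commute a u)
    (hT : IsNilpotent (aeval (a * u) (minpoly F α))) : aeval a (minpoly F α) = 0 := by
  have hu1 : u ^ q ^ ex F α V = 1 := by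
    have h := add_pow_card_pow (Commute.one_right (u - 1)) (ex F α V)
    rwa [sub_add_cancel, pow_eq_zero_of_isNilpotent hu finrank_le_q_ex, zero_add, one_pow] at h
  have h0 := aeval_ssPart hT
  rw [ssPart, hc.mul_pow, hu1, mul_one] at h0
  set N := q ^ ex F α V with hN
  have hs := pow_eq_self_of_aeval_eq_zero (F := F) (α := α) h0 (Module.finrank F V + 1)
  rw [show q ^ (dg F α * (Module.finrank F V + 1)) = N from rfl] at hs
  suffices a ^ N = a by rwa [this] at h0
  obtain ⟨k, hpp, hk⟩ := FiniteField.card F p
  have hco : Nat.Coprime M N := by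
    rw [hN, hk, ← pow_mul]
    exact Nat.Coprime.pow_right _ ((Nat.Prime.coprime_iff_not_dvd hpp).2 hM).symm
  rcases Nat.eq_zero_or_pos M with hM0 | hM0
  · exact absurd (hM0 ▸ dvd_zero p) hM
  have hua : IsUnit a := IsUnit.of_pow_eq_one ha (by omega)
  obtain ⟨ua, rfl⟩ := hua
  have hord : orderOf ua ∣ M := orderOf_dvd_of_pow_eq_one (Units.ext (by simpa using ha))
  have heq : (ua ^ N) ^ N = ua ^ N := Units.ext (by simpa using hs)
  rw [← pow_mul, pow_eq_pow_iff_modEq] at heq
  have h2 : N ≡ 1 [MOD orderOf ua] := by
    refine Nat.ModEq.cancel_left_of_coprime (c := N)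
      (Nat.Coprime.coprime_dvd_left hord hco) ?_
    simpa [Nat.mul_one] using heq
  have h3 : ua ^ N = ua := by
    conv_rhs => rw [← pow_one ua]
    exact pow_eq_pow_iff_modEq.2 h2
  simpa using congrArg Units.val h3

theorem isNilpotent_mul_sub (hu : IsNilpotent (u - 1)) (hc : Commute a u) :
    IsNilpotent (a * (u - 1)) :=
  Commute.isNilpotent_mul_left (hc.sub_right (Commute.one_right a)) hu

theorem ker_aeval_mul (ha0 : aeval a (minpoly F α) = 0) (hinj : Function.Injective a)
    (hu : IsNilpotent (u - 1)) (hc : Commute a u) :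
    LinearMap.ker (aeval (a * u) (minpoly F α)) = LinearMap.ker (u - 1) := by
  have hcomm : Commute (a * (u - 1)) a :=
    (Commute.refl a).mul_left (hc.symm.sub_left (Commute.one_left a))
  have h := ker_aeval_add ha0 (isNilpotent_mul_sub hu hc) hcomm
  rw [show a + a * (u - 1) = a * u by noncomm_ring] at h
  rw [h]
  ext v
  simp only [LinearMap.mem_ker, Module.End.mul_apply]
  exact ⟨fun hv => hinj (by rw [hv, map_zero]), fun hv => by rw [hv, map_zero]⟩

theorem isNilpotent_aeval_mul (ha0 : aeval a (minpoly F α) = 0)
    (hu : IsNilpotent (u - 1)) (hc : Commute a u) :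
    IsNilpotent (aeval (a * u) (minpoly F α)) := by
  have hcomm : Commute (a * (u - 1)) a :=
    (Commute.refl a).mul_left (hc.symm.sub_left (Commute.one_left a))
  have h := isNilpotent_aeval_add ha0 (isNilpotent_mul_sub hu hc) hcomm
  rwa [show a + a * (u - 1) = a * u by noncomm_ring] at h

end Coprime

section Module

variable (α)

/-- The algebra map `F⟮α⟯ → End V` given by a root `s` of `minpoly F α`. -/
noncomputable def toEnd {s : Module.End F V} (hs : aeval s (minpoly F α) = 0) :
    IntermediateField.adjoin F ({α} : Set B) →ₐ[F] Module.End F V :=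
  (IntermediateField.adjoin.powerBasis (isIntegral' α)).lift s
    (by rw [IntermediateField.adjoin.powerBasis_gen, IntermediateField.minpoly_gen]; exact hs)

theorem toEnd_gen {s : Module.End F V} (hs : aeval s (minpoly F α) = 0) :
    toEnd α hs (IntermediateField.AdjoinSimple.gen F α) = s := by
  rw [← IntermediateField.adjoin.powerBasis_gen (isIntegral' (F := F) α)]
  exact PowerBasis.lift_gen _ _ _

theorem algHom_ext {A : Type*} [Ring A] [Algebra F A]
    {φ ψ : IntermediateField.adjoin F ({α} : Set B) →ₐ[F] A}
    (h : φ (IntermediateField.AdjoinSimple.gen F α) = ψ (IntermediateField.AdjoinSimple.gen F α)) :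
    φ = ψ := by
  refine (IntermediateField.adjoin.powerBasis (isIntegral' (F := F) α)).algHom_ext ?_
  rw [IntermediateField.adjoin.powerBasis_gen]
  exact h

theorem dg_dvd_finrank {s : Module.End F V} (hs : aeval s (minpoly F α) = 0) :
    dg F α ∣ Module.finrank F V := by
  let φ := toEnd α hs
  let K := IntermediateField.adjoin F ({α} : Set B)
  let : Module K V := Module.compHom V φ.toRingHom
  have : IsScalarTower F K V := ⟨fun c x v => by
    show φ (c • x) v = c • φ x v
    rw [map_smul]; rfl⟩
  rw [← finrank_adjoin (F := F) α, ← Module.finrank_mul_finrank F K V]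
  exact dvd_mul_right _ _

end Module

end Field

section AlgHoms

variable {K : Type*} [Field K] [Algebra F K] [Finite K]
variable {V : Type*} [AddCommGroup V] [Module F V] [Module.Finite F V]

theorem card_linearEquiv_self {F : Type*} [Field F] [Fintype F] {V : Type*} [AddCommGroup V]
    [Module F V] [Module.Finite F V] :
    Nat.card (V ≃ₗ[F] V) =
      ∏ i ∈ Finset.range (Module.finrank F V),
        (Fintype.card F ^ Module.finrank F V - Fintype.card F ^ i) := by
  let b := Module.finBasis F V
  rw [← Fin.prod_univ_eq_prod_range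
      (fun i => Fintype.card F ^ Module.finrank F V - Fintype.card F ^ i), ← Matrix.card_GL_field]
  exact (Nat.card_congr ((Units.mapEquiv (LinearMap.toMatrixAlgEquiv b).toMulEquiv).symm.trans
    (LinearMap.GeneralLinearGroup.generalLinearEquiv F V)).toEquiv).symm

/-- The `F`-algebra map attached to an `F`-linear coordinatisation by `K^k`. -/
noncomputable def ofEquiv {k : ℕ} (e : (Fin k → K) ≃ₗ[F] V) : K →ₐ[F] Module.End F V :=
  (e.conjAlgEquiv F).toAlgHom.comp (Algebra.lsmul F F (Fin k → K))

theorem ofEquiv_apply {k : ℕ} (e : (Fin k → K) ≃ₗ[F] V) (c : K) (v : V) :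
    ofEquiv e c v = e (c • e.symm v) := rfl

theorem exists_ofEquiv_eq {k : ℕ} (hk : Module.finrank F V = Module.finrank F K * k)
    (φ : K →ₐ[F] Module.End F V) : ∃ e : (Fin k → K) ≃ₗ[F] V, ofEquiv e = φ := by
  let : Module K V := Module.compHom V φ.toRingHom
  have : IsScalarTower F K V := ⟨fun c x v => by
    show φ (c • x) v = c • φ x v
    rw [map_smul]; rfl⟩
  have : Module.Finite K V := Module.Finite.of_restrictScalars_finite F K V
  have hdim : Module.finrank K V = k := by
    have := Module.finrank_mul_finrank F K V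
    rw [hk] at this
    exact Nat.eq_of_mul_eq_mul_left Module.finrank_pos this
  let e := ((Module.finBasisOfFinrankEq K V hdim).equivFun.symm).restrictScalars F
  refine ⟨e, AlgHom.ext fun c => LinearMap.ext fun v => ?_⟩
  rw [ofEquiv_apply]
  show (Module.finBasisOfFinrankEq K V hdim).equivFun.symm (c • _) = _
  rw [map_smul]
  show c • (e (e.symm v)) = φ c v
  rw [LinearEquiv.apply_symm_apply]
  rfl

theorem ofEquiv_conj {k : ℕ} (e e' : (Fin k → K) ≃ₗ[F] V) (c : K) :
    ofEquiv e' c = (e.symm.trans e').conjAlgEquiv F (ofEquiv e c) := by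
  ext v
  simp [ofEquiv_apply, LinearEquiv.conjAlgEquiv_apply]

/-- Any two `K`-structures on `V` are conjugate. -/
theorem exists_conj {k : ℕ} (hk : Module.finrank F V = Module.finrank F K * k)
    (φ ψ : K →ₐ[F] Module.End F V) :
    ∃ g : V ≃ₗ[F] V, ∀ c, ψ c = g.conjAlgEquiv F (φ c) := by
  obtain ⟨e, rfl⟩ := exists_ofEquiv_eq hk φ
  obtain ⟨e', rfl⟩ := exists_ofEquiv_eq hk ψ
  exact ⟨e.symm.trans e', ofEquiv_conj e e'⟩

/-- The number of `K`-structures on `V`. -/
theorem card_algHom_mul [Fintype K] {k : ℕ}
    (hk : Module.finrank F V = Module.finrank F K * k) :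
    Nat.card (K →ₐ[F] Module.End F V) *
        ∏ i ∈ Finset.range k, (Fintype.card K ^ k - Fintype.card K ^ i) =
      ∏ i ∈ Finset.range (Module.finrank F V),
        (q ^ Module.finrank F V - q ^ i) := by
  classical
  have hfr : Module.finrank F (Fin k → K) = Module.finrank F V := by
    rw [Module.finrank_pi_fintype, hk]
    simp [mul_comm]
  obtain ⟨e₁⟩ := FiniteDimensional.nonempty_linearEquiv_of_finrank_eq hfr
  have hfib : ∀ φ : K →ₐ[F] Module.End F V,
      Nat.card {e : (Fin k → K) ≃ₗ[F] V // ofEquiv e = φ} =
        Nat.card ((Fin k → K) ≃ₗ[K] (Fin k → K)) := by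
    intro φ
    obtain ⟨e₀, rfl⟩ := exists_ofEquiv_eq hk φ
    refine Nat.card_congr
      { toFun := fun e =>
          { toFun := fun v => e₀.symm (e.1 v)
            map_add' := fun v w => by simp
            map_smul' := fun c v => by
              have h := congrArg (fun f => f c (e.1 v)) e.2
              simp only [ofEquiv_apply, LinearEquiv.symm_apply_apply] at h
              simp only [RingHom.id_apply, h, LinearEquiv.symm_apply_apply]
            invFun := fun v => e.1.symm (e₀ v)
            left_inv := fun v => by simp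
            right_inv := fun v => by simp }
        invFun := fun f => ⟨(f.restrictScalars F).trans e₀, AlgHom.ext fun c => LinearMap.ext
          fun v => by simp [ofEquiv_apply]⟩
        left_inv := fun e => Subtype.ext (LinearEquiv.ext fun v => by simp)
        right_inv := fun f => LinearEquiv.ext fun v => by simp }
  have h1 : Nat.card ((Fin k → K) ≃ₗ[F] V) =
      Nat.card (K →ₐ[F] Module.End F V) * Nat.card ((Fin k → K) ≃ₗ[K] (Fin k → K)) := by
    have : Finite V := Module.finite_of_finite F
    have : Finite (Module.End F V) := Module.finite_of_finite F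
    have : Finite (K →ₐ[F] Module.End F V) :=
      Finite.of_injective (fun φ => (φ : K → Module.End F V)) DFunLike.coe_injective
    have : Finite ((Fin k → K) ≃ₗ[F] V) :=
      Finite.of_injective (fun e => (e : (Fin k → K) → V)) DFunLike.coe_injective
    let : Fintype (K →ₐ[F] Module.End F V) := Fintype.ofFinite _
    rw [← Nat.card_congr (Equiv.sigmaFiberEquiv (ofEquiv (F := F) (V := V) (K := K) (k := k))),
      Nat.card_sigma, Finset.sum_congr rfl fun φ _ => hfib φ, Finset.sum_const, Finset.card_univ,
      smul_eq_mul, ← Nat.card_eq_fintype_card (α := K →ₐ[F] Module.End F V)]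
  rw [card_linearEquiv_self, Module.finrank_fin_fun] at h1
  rw [← h1, ← card_linearEquiv_self]
  exact Nat.card_congr
    { toFun := fun e => e₁.symm.trans e
      invFun := fun g => e₁.trans g
      left_inv := fun e => LinearEquiv.ext fun v => by simp
      right_inv := fun g => LinearEquiv.ext fun v => by simp }

end AlgHoms

end CfsgLib.GreenCuspidal.EndBasics
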