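import Cfsg.Agent.Lib.GreenCuspidal.QBinom
import Mathlib.LinearAlgebra.Matrix.GeneralLinearGroup.Card
import Mathlib.LinearAlgebra.Projection
import Mathlib.LinearAlgebra.FiniteDimensional.Lemmas
import Mathlib.Algebra.BigOperators.Fin
import Mathlib.Data.Rat.Cast.CharZero
import Mathlib.LinearAlgebra.FreeModule.Finite.Matrix

/-!
# Nilpotent endomorphisms of a finite vector space counted by the dimension of the kernel
-/

set_option autoImplicit false

namespace CfsgLib.GreenCuspidal.NilpCount

open Finset

universe u

theorem map_cc {R S : Type*} [CommRing R] [CommRing S] (φ : R →+* S) (Q : R) (t : ℕ) :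
    φ (QBinom.cc Q t) = QBinom.cc (φ Q) t := by
  simp [QBinom.cc, map_prod]

theorem map_ind {R S : Type*} [CommRing R] [CommRing S] (φ : R →+* S) (Q X : R) (j : ℕ) :
    φ (QBinom.ind Q X j) = QBinom.ind (φ Q) (φ X) j := by
  simp [QBinom.ind, map_prod]

variable {K : Type*} [Field K] [Fintype K]

local notation "QQ" => (Fintype.card K : ℚ)

theorem one_lt_card : (1 : ℚ) < QQ := by exact_mod_cast Fintype.one_lt_card

theorem phi_ne_zero (j : ℕ) : QBinom.phi QQ j ≠ 0 :=
  Finset.prod_ne_zero_iff.2 fun i _ =>
    sub_ne_zero.2 (one_lt_pow₀ (one_lt_card (K := K)) (Nat.succ_ne_zero i)).ne'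

theorem card_ne_zero : QQ ≠ 0 := (zero_lt_one.trans (one_lt_card (K := K))).ne'

theorem ind_self_ne_zero (r : ℕ) : QBinom.ind QQ (QQ ^ r) r ≠ 0 :=
  Finset.prod_ne_zero_iff.2 fun i hi =>
    sub_ne_zero.2 (pow_lt_pow_right₀ (one_lt_card (K := K)) (Finset.mem_range.1 hi)).ne'

variable {W : Type u} [AddCommGroup W] [Module K W] [Module.Finite K W]

/-- The number of independent `s`-tuples. -/
theorem card_li (s : ℕ) :
    (Nat.card {v : Fin s → W // LinearIndependent K v} : ℚ) =
      QBinom.ind QQ (QQ ^ Module.finrank K W) s := by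
  have : Finite W := Module.finite_of_finite K
  rcases Nat.lt_or_ge (Module.finrank K W) s with hs | hs
  · rw [QBinom.ind_pow_eq_zero _ hs]
    have : IsEmpty {v : Fin s → W // LinearIndependent K v} :=
      ⟨fun v => absurd v.2.fintype_card_le_finrank (by simpa using hs)⟩
    simp
  · rw [card_linearIndependent hs, Nat.cast_prod, QBinom.ind,
      ← Fin.prod_univ_eq_prod_range (fun i => QQ ^ Module.finrank K W - QQ ^ i)]
    refine Finset.prod_congr rfl fun i _ => ?_
    rw [Nat.cast_sub (Nat.pow_le_pow_right Fintype.card_pos (i.2.le.trans hs))]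
    push_cast
    rfl

/-- Nilpotent endomorphisms killing `U` correspond to a map from a complement to `U` and a
nilpotent endomorphism of the complement. -/
theorem card_nilp_ge (U C : Submodule K W) (h : IsCompl U C) :
    Nat.card {δ : Module.End K W // IsNilpotent δ ∧ U ≤ LinearMap.ker δ} =
      Nat.card (C →ₗ[K] U) * Nat.card {δ : Module.End K C // IsNilpotent δ} := by
  let pU : W →ₗ[K] U := Submodule.projectionOnto U C h
  let pC : W →ₗ[K] C := Submodule.projectionOnto C U h.symm
  have hsum : ∀ w : W, (pU w : W) + (pC w : W) = w := fun w =>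
    Submodule.projection_add_projection_eq_self h w
  have hU0 : ∀ (δ : Module.End K W), U ≤ LinearMap.ker δ → ∀ w, δ w = δ (pC w : W) := by
    intro δ hδ w
    conv_lhs => rw [← hsum w]
    rw [map_add, LinearMap.mem_ker.1 (hδ (pU w).2), zero_add]
  have hnil : ∀ (δ : Module.End K W), U ≤ LinearMap.ker δ →
      (IsNilpotent (pC ∘ₗ δ ∘ₗ C.subtype : Module.End K C) ↔ IsNilpotent δ) := by
    intro δ hδ
    have hpow : ∀ (i : ℕ) (w : W),
        ((pC ∘ₗ δ ∘ₗ C.subtype : Module.End K C) ^ i) (pC w) = pC ((δ ^ i) w) := by
      intro i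
      induction i with
      | zero => exact fun w => rfl
      | succ i ih =>
        intro w
        rw [pow_succ', pow_succ', Module.End.mul_apply, Module.End.mul_apply, ih]
        exact congrArg pC (hU0 δ hδ _).symm
    constructor
    · rintro ⟨N, hN⟩
      refine ⟨N + 1, LinearMap.ext fun w => ?_⟩
      rw [pow_succ', Module.End.mul_apply, LinearMap.zero_apply]
      rw [hU0 δ hδ, ← hpow, hN]
      simp
    · rintro ⟨N, hN⟩
      refine ⟨N, LinearMap.ext fun c => ?_⟩
      have := hpow N (c : W)
      rw [hN, show pC (c : W) = c from Submodule.projectionOnto_apply_left h.symm c] at this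
      simpa using this
  rw [← Nat.card_prod]
  refine Nat.card_congr
    { toFun := fun δ => (pU ∘ₗ δ.1 ∘ₗ C.subtype, ⟨pC ∘ₗ δ.1 ∘ₗ C.subtype, (hnil _ δ.2.2).2 δ.2.1⟩)
      invFun := fun x => ⟨(U.subtype ∘ₗ x.1 + C.subtype ∘ₗ x.2.1) ∘ₗ pC, ?_⟩
      left_inv := fun δ => ?_
      right_inv := fun x => ?_ }
  · have hk : U ≤ LinearMap.ker ((U.subtype ∘ₗ x.1 + C.subtype ∘ₗ x.2.1) ∘ₗ pC) := fun w hw =>
      LinearMap.mem_ker.2 (by
        rw [LinearMap.comp_apply, show pC w = 0 from
          (Submodule.projectionOnto_apply_eq_zero_iff h.symm).2 hw, map_zero])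
    refine ⟨(hnil _ hk).1 ?_, hk⟩
    convert x.2.2 using 1
    ext c
    simp only [pC, LinearMap.comp_apply, LinearMap.add_apply, Submodule.subtype_apply,
      Submodule.projectionOnto_apply_left, map_add, Submodule.projectionOnto_apply_right, zero_add]
  · refine Subtype.ext (LinearMap.ext fun w => ?_)
    simp only [LinearMap.comp_apply, LinearMap.add_apply, Submodule.subtype_apply]
    rw [hsum]
    exact (hU0 _ δ.2.2 w).symm
  · refine Prod.ext (LinearMap.ext fun c => ?_) (Subtype.ext (LinearMap.ext fun c => ?_)) <;>
      simp only [pU, pC, LinearMap.comp_apply, LinearMap.add_apply, Submodule.subtype_apply,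
        Submodule.projectionOnto_apply_left, map_add, Submodule.projectionOnto_apply_right,
        zero_add, add_zero]

theorem cast_card_sigma {ι : Type*} [Fintype ι] {β : ι → Type*} [∀ i, Finite (β i)] :
    (Nat.card ((i : ι) × β i) : ℚ) = ∑ i, (Nat.card (β i) : ℚ) := by
  rw [Nat.card_sigma]; push_cast; rfl

/-- Summation over nilpotent endomorphisms along the dimension of the kernel. -/
theorem sum_nilp {S : Type*} [CommRing S] [Fintype {δ : Module.End K W // IsNilpotent δ}]
    (h : ℕ → S) :
    ∑ δ : {δ : Module.End K W // IsNilpotent δ}, h (Module.finrank K (LinearMap.ker δ.1)) =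
      ∑ r ∈ range (Module.finrank K W + 1),
        (Nat.card {δ : Module.End K W // IsNilpotent δ ∧ Module.finrank K (LinearMap.ker δ) = r} :
          S) * h r := by
  classical
  rw [← Finset.sum_fiberwise_of_maps_to
    (g := fun δ : {δ : Module.End K W // IsNilpotent δ} => Module.finrank K (LinearMap.ker δ.1))
    (t := range (Module.finrank K W + 1))
    (fun δ _ => Finset.mem_range.2 (Nat.lt_succ_of_le (Submodule.finrank_le _)))]
  refine Finset.sum_congr rfl fun r _ => ?_
  rw [Finset.sum_congr rfl fun δ hδ => by rw [(Finset.mem_filter.1 hδ).2], Finset.sum_const,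
    nsmul_eq_mul]
  congr 2
  rw [← Fintype.card_subtype, ← Nat.card_eq_fintype_card]
  exact Nat.card_congr (Equiv.subtypeSubtypeEquivSubtypeInter _
    fun δ : Module.End K W => Module.finrank K (LinearMap.ker δ) = r)

/-- The number of nilpotent endomorphisms with `r`-dimensional kernel. -/
theorem card_nilp_ker (k : ℕ) :
    ∀ (W : Type u) [AddCommGroup W] [Module K W] [Module.Finite K W], Module.finrank K W = k →
      ∀ r ≤ k, (Nat.card {δ : Module.End K W //
        IsNilpotent δ ∧ Module.finrank K (LinearMap.ker δ) = r} : ℚ) = QBinom.nf QQ k r := by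
  induction k using Nat.strong_induction_on with
  | _ k ih =>
  intro W _ _ _ hk
  have : Finite W := Module.finite_of_finite K
  have : Finite (Module.End K W) := Module.finite_of_finite K
  have hfinC : ∀ C : Submodule K W, Finite (Module.End K C) := fun C => Module.finite_of_finite K
  rcases Nat.eq_zero_or_pos k with rfl | hk0
  · intro r hr
    obtain rfl := Nat.le_zero.1 hr
    have : Subsingleton W := Module.finrank_zero_iff.1 hk
    have : Unique {δ : Module.End K W //
        IsNilpotent δ ∧ Module.finrank K (LinearMap.ker δ) = 0} :=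
      { default := ⟨0, IsNilpotent.zero, Nat.le_zero.1 ((Submodule.finrank_le _).trans hk.le)⟩
        uniq := fun a => Subtype.ext (Subsingleton.elim _ _) }
    rw [Nat.card_unique]
    simp [QBinom.nf, QBinom.E]
  set cnt : ℕ → ℚ := fun r => (Nat.card {δ : Module.End K W //
        IsNilpotent δ ∧ Module.finrank K (LinearMap.ker δ) = r} : ℚ) with hcnt
  have hmom : ∀ s, 1 ≤ s → s ≤ k → ∑ r ∈ range (k + 1), cnt r * QBinom.ind QQ (QQ ^ r) s =
      QBinom.ind QQ (QQ ^ k) s * QQ ^ ((k - 1) * (k - s)) := by
    intro s hs1 hsk
    let : Fintype {δ : Module.End K W // IsNilpotent δ} := Fintype.ofFinite _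
    let : Fintype {v : Fin s → W // LinearIndependent K v} := Fintype.ofFinite _
    have h1 := sum_nilp (K := K) (W := W) (S := ℚ) fun r => QBinom.ind QQ (QQ ^ r) s
    rw [hk] at h1
    simp only [hcnt]
    rw [← h1, ← hk, ← card_li (W := W) s]
    calc ∑ δ : {δ : Module.End K W // IsNilpotent δ},
          QBinom.ind QQ (QQ ^ Module.finrank K (LinearMap.ker δ.1)) s
        = ∑ δ : {δ : Module.End K W // IsNilpotent δ},
            (Nat.card {v : {v : Fin s → W // LinearIndependent K v} //
              Submodule.span K (Set.range v.1) ≤ LinearMap.ker δ.1} : ℚ) := by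
          refine Finset.sum_congr rfl fun δ _ => ?_
          rw [← card_li]
          congr 1
          exact Nat.card_congr
            { toFun := fun v => ⟨⟨fun i => (v.1 i : W),
                v.2.map' (LinearMap.ker δ.1).subtype (Submodule.ker_subtype _)⟩,
                Submodule.span_le.2 (by rintro _ ⟨i, rfl⟩; exact (v.1 i).2)⟩
              invFun := fun v => ⟨fun i => ⟨v.1.1 i, v.2 (Submodule.subset_span ⟨i, rfl⟩)⟩,
                LinearIndependent.of_comp (LinearMap.ker δ.1).subtype v.1.2⟩
              left_inv := fun v => rfl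
              right_inv := fun v => rfl }
      _ = ∑ v : {v : Fin s → W // LinearIndependent K v},
            (Nat.card {δ : {δ : Module.End K W // IsNilpotent δ} //
              Submodule.span K (Set.range v.1) ≤ LinearMap.ker δ.1} : ℚ) := by
          rw [← cast_card_sigma, ← cast_card_sigma]
          congr 1
          exact Nat.card_congr
            { toFun := fun x => ⟨x.2.1, ⟨x.1, x.2.2⟩⟩
              invFun := fun x => ⟨x.2.1, ⟨x.1, x.2.2⟩⟩
              left_inv := fun x => rfl
              right_inv := fun x => rfl }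
      _ = ∑ _v : {v : Fin s → W // LinearIndependent K v}, QQ ^ ((k - 1) * (k - s)) := by
          refine Finset.sum_congr rfl fun v _ => ?_
          set U := Submodule.span K (Set.range v.1) with hU
          have hUs : Module.finrank K U = s := by
            rw [hU, finrank_span_eq_card v.2, Fintype.card_fin]
          obtain ⟨C, hC⟩ := U.exists_isCompl
          have hCd : Module.finrank K C = k - s := by
            have := Submodule.finrank_add_eq_of_isCompl hC
            omega
          rw [Nat.card_congr (Equiv.subtypeSubtypeEquivSubtypeInter (IsNilpotent ·)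
            fun δ : Module.End K W => U ≤ LinearMap.ker δ), card_nilp_ge U C hC]
          have := hfinC C
          let : Fintype {δ : Module.End K C // IsNilpotent δ} := Fintype.ofFinite _
          have htot : (Nat.card {δ : Module.End K C // IsNilpotent δ} : ℚ) =
              QQ ^ ((k - s - 1) * (k - s)) := by
            have h2 := sum_nilp (K := K) (W := C) (S := ℚ) fun _ => 1
            simp only [Finset.sum_const, Finset.card_univ, nsmul_eq_mul, mul_one] at h2
            rw [← Nat.card_eq_fintype_card] at h2
            rw [h2, hCd]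
            have h3 := QBinom.sum_nf_ind QQ (phi_ne_zero (K := K)) (card_ne_zero (K := K))
              (Nat.zero_le (k - s))
            simp only [QBinom.ind, Finset.range_zero, Finset.prod_empty, mul_one, one_mul,
              Nat.sub_zero] at h3
            rw [← h3]
            exact Finset.sum_congr rfl fun r hr => ih (k - s) (by omega) C hCd r
              (Nat.lt_succ_iff.1 (Finset.mem_range.1 hr))
          rw [Nat.cast_mul, htot, Module.natCard_eq_pow_finrank (K := K) (V := C →ₗ[K] U),
            Module.finrank_linearMap, hUs, hCd, Nat.card_eq_fintype_card]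
          push_cast
          rw [← pow_add]
          congr 1
          obtain ⟨l, rfl⟩ := Nat.exists_eq_add_of_le hsk
          rw [Nat.add_sub_cancel_left]
          rcases Nat.eq_zero_or_pos l with rfl | hl
          · simp
          · rw [show s + l - 1 = s + (l - 1) by omega]
            ring
      _ = _ := by
          rw [Finset.sum_const, Finset.card_univ, nsmul_eq_mul, ← Nat.card_eq_fintype_card, hk]
  have h0 : cnt 0 = 0 := by
    have : IsEmpty {δ : Module.End K W //
        IsNilpotent δ ∧ Module.finrank K (LinearMap.ker δ) = 0} := ⟨fun δ => by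
      obtain ⟨N, hN⟩ := δ.2.1
      have hinj : Function.Injective (δ.1 ^ N) := by
        rw [Module.End.coe_pow]
        exact Function.Injective.iterate
          (LinearMap.ker_eq_bot.1 (Submodule.finrank_eq_zero.1 δ.2.2)) N
      have : Nontrivial W := Module.nontrivial_of_finrank_pos (R := K) (hk ▸ hk0)
      obtain ⟨w, hw⟩ := exists_ne (0 : W)
      exact hw (hinj (by rw [hN]; rfl))⟩
    simp only [hcnt, Nat.card_of_isEmpty, Nat.cast_zero]
  have key : ∀ d r, r ≤ k → k - r = d → cnt r = QBinom.nf QQ k r := by
    intro d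
    induction d using Nat.strong_induction_on with
    | _ d ihd =>
    intro r hr hd
    rcases Nat.eq_zero_or_pos r with rfl | hr0
    · rw [h0, QBinom.nf_zero _ (card_ne_zero (K := K)) hk0.ne']
    have h1 := (hmom r hr0 hr).trans
      (QBinom.sum_nf_ind QQ (phi_ne_zero (K := K)) (card_ne_zero (K := K)) hr).symm
    rw [← sub_eq_zero, ← Finset.sum_sub_distrib,
      Finset.sum_eq_single_of_mem r (Finset.mem_range.2 (Nat.lt_succ_of_le hr)) fun j hj hne => ?_]
      at h1
    · rw [← sub_mul, mul_eq_zero] at h1
      exact sub_eq_zero.1 (h1.resolve_right (ind_self_ne_zero (K := K) r))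
    · rcases Nat.lt_or_gt_of_ne hne with hlt | hgt
      · rw [QBinom.ind_pow_eq_zero _ hlt]; ring
      · have hj' := Nat.lt_succ_iff.1 (Finset.mem_range.1 hj)
        rw [ihd (k - j) (by omega) j hj' rfl, sub_self]
  exact fun r hr => key (k - r) r hr rfl

/-- The sum of the squared weights over nilpotent endomorphisms. -/
theorem sum_cc_sq [Fintype {δ : Module.End K W // IsNilpotent δ}]
    (hW : Module.finrank K W ≠ 0) :
    ((Fintype.card K : ℤ) ^ Module.finrank K W - 1) *
        ∑ δ : {δ : Module.End K W // IsNilpotent δ},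
          QBinom.cc (Fintype.card K : ℤ) (Module.finrank K (LinearMap.ker δ.1)) ^ 2 =
      (Module.finrank K W : ℤ) *
        QBinom.ind (Fintype.card K : ℤ) ((Fintype.card K : ℤ) ^ Module.finrank K W)
          (Module.finrank K W) := by
  apply (Int.castRingHom ℚ).injective_int
  simp only [map_mul, map_sub, map_pow, map_one, map_sum, map_cc, map_ind]
  simp only [eq_intCast, Int.cast_natCast]
  rw [sum_nilp (K := K) (W := W) (S := ℚ) fun r => QBinom.cc QQ r ^ 2]
  rw [Finset.sum_congr rfl fun r hr => by
    rw [card_nilp_ker _ W rfl r (Nat.lt_succ_iff.1 (Finset.mem_range.1 hr))]]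
  exact QBinom.sum_nf_cc_sq QQ (phi_ne_zero (K := K)) (card_ne_zero (K := K)) hW

end CfsgLib.GreenCuspidal.NilpCount
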