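import Cfsg.Agent.Lib.GreenCuspidal.EndBasics
import Cfsg.Agent.Lib.GreenCuspidal.NilpCount
import Mathlib.FieldTheory.Finite.Extension
import Mathlib.Analysis.Complex.Basic

/-!
# Green's cuspidal class function of `GL_n(q)` and its inner products
-/

set_option autoImplicit false
set_option linter.unusedSectionVars false

namespace CfsgLib.GreenCuspidal.Green

open Polynomial CfsgLib.GreenCuspidal.EndBasics
open scoped ComplexConjugate

variable {F : Type*} [Field F] [Fintype F]
variable {B : Type*} [Field B] [Algebra F B] [Fintype B]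
variable {V : Type*} [AddCommGroup V] [Module F V] [Module.Finite F V]

local notation "q" => Fintype.card F

/-- The dimension over `F⟮α⟯` of the kernel of `minpoly F α` at `T`. -/
noncomputable def tt (α : B) (T : Module.End F V) : ℕ :=
  Module.finrank F (LinearMap.ker (aeval T (minpoly F α))) / dg F α

open scoped Classical in
/-- Green's class function attached to a multiplicative function `Θ` on `B`. -/
noncomputable def green (Θ : B →*₀ ℂ) (T : Module.End F V) : ℂ :=
  ∑ α : B, if IsNilpotent (aeval T (minpoly F α)) then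
    Θ α * QBinom.cc ((q : ℂ) ^ dg F α) (tt α T) else 0

theorem green_conj {V' : Type*} [AddCommGroup V'] [Module F V'] [Module.Finite F V']
    (Θ : B →*₀ ℂ) (g : V ≃ₗ[F] V') (T : Module.End F V) :
    green Θ (g.conjAlgEquiv F T) = green Θ T := by
  classical
  refine Finset.sum_congr rfl fun α _ => ?_
  rw [show aeval (g.conjAlgEquiv F T) (minpoly F α) = g.conjAlgEquiv F (aeval T (minpoly F α)) from
    aeval_algHom_apply (g.conjAlgEquiv F).toAlgHom T _]
  have h1 : IsNilpotent (g.conjAlgEquiv F (aeval T (minpoly F α))) ↔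
      IsNilpotent (aeval T (minpoly F α)) :=
    IsNilpotent.map_iff (g.conjAlgEquiv F).injective
  have h2 : tt α (g.conjAlgEquiv F T) = tt α T := by
    rw [tt, tt, show aeval (g.conjAlgEquiv F T) (minpoly F α) =
      g.conjAlgEquiv F (aeval T (minpoly F α)) from
      aeval_algHom_apply (g.conjAlgEquiv F).toAlgHom T _]
    congr 1
    have : LinearMap.ker (g.conjAlgEquiv F (aeval T (minpoly F α))) =
        (LinearMap.ker (aeval T (minpoly F α))).map (g : V →ₗ[F] V') := by
      ext v
      simp only [LinearMap.mem_ker, LinearEquiv.conjAlgEquiv_apply, LinearMap.comp_apply,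
        LinearEquiv.coe_coe, LinearEquiv.map_eq_zero_iff, Submodule.mem_map]
      exact ⟨fun h => ⟨g.symm v, h, g.apply_symm_apply v⟩,
        by rintro ⟨w, hw, rfl⟩; simpa using hw⟩
    rw [this]
    exact LinearEquiv.finrank_map_eq g _
  simp only [h1, h2]

theorem minpoly_eq_of_isNilpotent [Nontrivial V] {α β : B} {T : Module.End F V}
    (hα : IsNilpotent (aeval T (minpoly F α))) (hβ : IsNilpotent (aeval T (minpoly F β))) :
    minpoly F α = minpoly F β := by
  have ha := minpoly.irreducible (isIntegral' (F := F) α)
  have hb := minpoly.irreducible (isIntegral' (F := F) β)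
  by_contra hne
  have hco : IsCoprime (minpoly F α) (minpoly F β) := by
    rw [ha.coprime_iff_not_dvd]
    intro hdvd
    exact hne (eq_of_monic_of_associated (minpoly.monic (isIntegral' α))
      (minpoly.monic (isIntegral' β)) (ha.associated_of_dvd hb hdvd))
  obtain ⟨i, hi⟩ := hα
  obtain ⟨j, hj⟩ := hβ
  obtain ⟨a, b, hab⟩ := hco.pow (m := i) (n := j)
  have := congrArg (aeval T) hab
  simp [hi, hj] at this

theorem eq_one_of_isNilpotent_one [Nontrivial V] {α : B}
    (h : IsNilpotent (aeval (1 : Module.End F V) (minpoly F α))) : α = 1 := by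
  have h1 : IsNilpotent (aeval (1 : Module.End F V) (minpoly F (1 : B))) :=
    ⟨1, by simp [minpoly.one]⟩
  have := congrArg (aeval α) (minpoly_eq_of_isNilpotent h h1)
  rw [minpoly.aeval, minpoly.one] at this
  simp only [map_sub, aeval_X, map_one] at this
  exact sub_eq_zero.1 this.symm

theorem dg_one : dg F (1 : B) = 1 := by rw [dg, minpoly.one, ← C_1, natDegree_X_sub_C]

/-- The value at the identity. -/
theorem green_one [Nontrivial V] (Θ : B →*₀ ℂ) :
    green Θ (1 : Module.End F V) = QBinom.cc (q : ℂ) (Module.finrank F V) := by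
  classical
  rw [green, Finset.sum_eq_single (1 : B) (fun α _ hα => if_neg fun h =>
    hα (eq_one_of_isNilpotent_one h)) (fun h => absurd (Finset.mem_univ _) h)]
  have h0 : aeval (1 : Module.End F V) (minpoly F (1 : B)) = 0 := by simp [minpoly.one]
  rw [if_pos (h0 ▸ IsNilpotent.zero), map_one, one_mul, tt, h0, LinearMap.ker_zero, finrank_top,
    dg_one, pow_one, Nat.div_one]

theorem isUnit_of_isNilpotent {α : B} (hα : α ≠ 0) {T : Module.End F V}
    (h : IsNilpotent (aeval T (minpoly F α))) : IsUnit T := by
  set f := minpoly F α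
  have hc : f.coeff 0 ≠ 0 := minpoly.coeff_zero_ne_zero (isIntegral' α) hα
  have hsplit : f = X * f.divX + C (f.coeff 0) := (X_mul_divX_add f).symm
  have hT : aeval T f = T * aeval T f.divX + algebraMap F _ (f.coeff 0) := by
    have := congrArg (aeval T) hsplit
    rwa [map_add, map_mul, aeval_X, aeval_C] at this
  have hu : IsUnit (T * aeval T f.divX) := by
    have : IsUnit (aeval T f - algebraMap F (Module.End F V) (f.coeff 0)) :=
      sub_eq_add_neg (aeval T f) _ ▸ IsNilpotent.isUnit_add_right_of_commute h
        ((hc.isUnit).map (algebraMap F (Module.End F V))).neg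
        (show Commute (aeval T f) _ from (Algebra.commutes _ _).symm).neg_right
    rwa [hT, add_sub_cancel_right] at this
  have hcomm : Commute T (aeval T f.divX) := by
    have := (Commute.all (X : F[X]) f.divX).map (aeval T : F[X] →ₐ[F] Module.End F V)
    rwa [aeval_X] at this
  exact ((hcomm.isUnit_mul_iff).1 hu).1

theorem green_eq_zero_of_not_isUnit (Θ : B →*₀ ℂ) {T : Module.End F V} (h : ¬ IsUnit T) :
    green Θ T = 0 := by
  classical
  refine Finset.sum_eq_zero fun α _ => ?_
  rcases eq_or_ne α 0 with rfl | hα
  · simp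
  · exact if_neg fun hn => h (isUnit_of_isNilpotent hα hn)

section Count

variable (α : B)

/-- The endomorphisms at which `minpoly F α` is nilpotent, by semisimple and nilpotent part. -/
noncomputable def decompEquiv :
    {T : Module.End F V // IsNilpotent (aeval T (minpoly F α))} ≃
      Σ s : {s : Module.End F V // aeval s (minpoly F α) = 0},
        {δ : Module.End F V // IsNilpotent δ ∧ Commute δ s.1} where
  toFun T := ⟨⟨ssPart α T.1, aeval_ssPart T.2⟩, ⟨T.1 - ssPart α T.1, isNilpotent_sub_ssPart T.2,
    commute_sub_ssPart⟩⟩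
  invFun x := ⟨x.1.1 + x.2.1, isNilpotent_aeval_add x.1.2 x.2.2.1 x.2.2.2⟩
  left_inv T := Subtype.ext (by simp)
  right_inv x := by
    obtain ⟨⟨s, hs⟩, ⟨δ, hδ, hc⟩⟩ := x
    have h := ssPart_add hs hδ hc
    exact Sigma.subtype_ext (Subtype.ext h) (by simp [h])

/-- For a fixed root, the sum of the squared weights. -/
theorem sum_fibre [Nontrivial V] {s : Module.End F V} (hs : aeval s (minpoly F α) = 0) {k : ℕ}
    (hk : Module.finrank F V = dg F α * k)
    [Fintype {δ : Module.End F V // IsNilpotent δ ∧ Commute δ s}] :
    (((q : ℤ) ^ dg F α) ^ k - 1) *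
      ∑ δ : {δ : Module.End F V // IsNilpotent δ ∧ Commute δ s},
        QBinom.cc ((q : ℤ) ^ dg F α) (tt α (s + δ.1)) ^ 2 =
      (k : ℤ) * QBinom.ind ((q : ℤ) ^ dg F α) (((q : ℤ) ^ dg F α) ^ k) k := by
  classical
  set K := IntermediateField.adjoin F ({α} : Set B) with hK
  let : Fintype K := Fintype.ofFinite K
  set φ := toEnd α hs with hφ
  let : Module K V := Module.compHom V φ.toRingHom
  have : IsScalarTower F K V := ⟨fun c x v => by
    show φ (c • x) v = c • φ x v
    rw [map_smul]; rfl⟩
  have hQ : (Fintype.card K : ℤ) = (q : ℤ) ^ dg F α := by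
    rw [← Nat.card_eq_fintype_card, card_adjoin]
    push_cast
    rfl
  have : Module.Finite K V := Module.Finite.of_restrictScalars_finite F K V
  have hdim : Module.finrank K V = k := by
    have := Module.finrank_mul_finrank F K V
    rw [hk, finrank_adjoin] at this
    exact Nat.eq_of_mul_eq_mul_left (dg_pos α) this
  have hk0 : k ≠ 0 := by
    rintro rfl
    simp [Module.finrank_pos.ne'] at hk
  have hrange : ∀ (δ : Module.End F V), Commute δ s → ∀ (c : K) (v : V), δ (φ c v) = φ c (δ v) := by
    intro δ hc c v
    obtain ⟨f, hf⟩ := (IntermediateField.adjoin.powerBasis (isIntegral' (F := F) α)).exists_eq_aeval' c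
    rw [IntermediateField.adjoin.powerBasis_gen] at hf
    rw [hf, ← aeval_algHom_apply, toEnd_gen]
    refine congrArg (fun e : Module.End F V => e v) (a₁ := δ * aeval s f) (a₂ := aeval s f * δ) ?_
    clear hf
    induction f using Polynomial.induction_on' with
    | add f g hf hg => rw [map_add, mul_add, add_mul, hf, hg]
    | monomial m a =>
      rw [aeval_monomial]
      exact ((show Commute δ (algebraMap F _ a) from (Algebra.commutes a δ).symm).mul_right
        (hc.pow_right m)).eq
  let e : {δ : Module.End K V // IsNilpotent δ} ≃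
      {δ : Module.End F V // IsNilpotent δ ∧ Commute δ s} :=
    { toFun := fun δ => ⟨δ.1.restrictScalars F, by
        obtain ⟨N, hN⟩ := δ.2
        refine ⟨N, LinearMap.ext fun v => ?_⟩
        rw [Module.End.coe_pow, LinearMap.coe_restrictScalars, ← Module.End.coe_pow, hN]
        rfl, by
        have hgen : φ (IntermediateField.AdjoinSimple.gen F α) = s := toEnd_gen α hs
        refine LinearMap.ext fun v => ?_
        rw [Module.End.mul_apply, Module.End.mul_apply, ← hgen]
        exact δ.1.map_smul (IntermediateField.AdjoinSimple.gen F α) v⟩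
      invFun := fun δ => ⟨{ toFun := δ.1
                            map_add' := map_add δ.1
                            map_smul' := fun c v => hrange δ.1 δ.2.2 c v }, by
        obtain ⟨N, hN⟩ := δ.2.1
        refine ⟨N, LinearMap.ext fun v => ?_⟩
        rw [Module.End.coe_pow]
        show δ.1^[N] v = 0
        rw [← Module.End.coe_pow, hN]
        rfl⟩
      left_inv := fun δ => rfl
      right_inv := fun δ => rfl }
  let : Fintype {δ : Module.End K V // IsNilpotent δ} := Fintype.ofEquiv _ e.symm
  have h := NilpCount.sum_cc_sq (K := K) (W := V) (by rwa [hdim])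
  rw [hdim, hQ] at h
  rw [← h]
  congr 1
  refine (Fintype.sum_equiv e _ _ fun δ => ?_).symm
  have hker := ker_aeval_add hs (e δ).2.1 (e δ).2.2
  rw [tt, hker]
  have hfin : Module.finrank F (LinearMap.ker (e δ).1) =
      dg F α * Module.finrank K (LinearMap.ker δ.1) := by
    rw [← finrank_adjoin (F := F) α, Module.finrank_mul_finrank F K (LinearMap.ker δ.1)]
    rfl
  rw [hfin, Nat.mul_div_cancel_left _ (dg_pos α)]

open scoped Classical in
/-- The sum over all endomorphisms of the squared weight. -/
noncomputable def sqSum (F : Type*) [Field F] [Fintype F] {B : Type*} [Field B] [Algebra F B]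
    (V : Type*) [AddCommGroup V] [Module F V] [Fintype (Module.End F V)] (α : B) : ℤ :=
  ∑ T : Module.End F V, if IsNilpotent (aeval T (minpoly F α)) then
    QBinom.cc ((Fintype.card F : ℤ) ^ dg F α) (tt α T) ^ 2 else 0

theorem sqSum_mul [Nontrivial V] [Fintype (Module.End F V)] :
    ((q : ℤ) ^ Module.finrank F V - 1) * sqSum F V α =
      if dg F α ∣ Module.finrank F V then ((Module.finrank F V / dg F α : ℕ) : ℤ) *
        QBinom.ind (q : ℤ) ((q : ℤ) ^ Module.finrank F V) (Module.finrank F V) else 0 := by
  classical
  split_ifs with hd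
  · obtain ⟨k, hk⟩ := hd
    rw [hk, Nat.mul_div_cancel_left _ (dg_pos α), pow_mul, sqSum, ← Finset.sum_filter,
      ← Finset.sum_subtype_eq_sum_filter, Finset.subtype_univ,
      Fintype.sum_equiv (decompEquiv α) _
        (fun x => QBinom.cc ((q : ℤ) ^ dg F α) (tt α (x.1.1 + x.2.1)) ^ 2)
        (fun T => by simp [decompEquiv]),
      Fintype.sum_sigma, Finset.mul_sum, Finset.sum_congr rfl fun s _ => sum_fibre α s.2 hk,
      Finset.sum_const, Finset.card_univ, nsmul_eq_mul]
    rw [mul_left_comm]
    congr 1
    set K := IntermediateField.adjoin F ({α} : Set B)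
    let : Fintype K := Fintype.ofFinite K
    have hroots : Nat.card {s : Module.End F V // aeval s (minpoly F α) = 0} =
        Nat.card (K →ₐ[F] Module.End F V) := Nat.card_congr
      { toFun := fun s => toEnd α s.2
        invFun := fun φ => ⟨φ (IntermediateField.AdjoinSimple.gen F α), by
          rw [aeval_algHom_apply, ← IntermediateField.minpoly_gen, minpoly.aeval, map_zero]⟩
        left_inv := fun s => Subtype.ext (toEnd_gen α s.2)
        right_inv := fun φ => algHom_ext α (toEnd_gen α _) }
    have hcard := card_algHom_mul (F := F) (K := K) (V := V) (k := k)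
      (by rw [finrank_adjoin, hk])
    have hK : Fintype.card K = q ^ dg F α := by rw [← Nat.card_eq_fintype_card, card_adjoin]
    rw [← hroots, hK, hk, Nat.card_eq_fintype_card] at hcard
    have hind : ∀ (Q m : ℕ), 1 < Q → ((∏ i ∈ Finset.range m, (Q ^ m - Q ^ i) : ℕ) : ℤ) =
        QBinom.ind (Q : ℤ) ((Q : ℤ) ^ m) m := by
      intro Q m hQ
      rw [QBinom.ind, Nat.cast_prod]
      refine Finset.prod_congr rfl fun i hi => ?_
      rw [Nat.cast_sub (Nat.pow_le_pow_right (by omega) (Finset.mem_range.1 hi).le)]
      push_cast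
      rfl
    have hQ1 : 1 < q ^ dg F α := Nat.one_lt_pow (dg_pos α).ne' Fintype.one_lt_card
    have e1 := hind (q ^ dg F α) k hQ1
    have e2 := hind q (dg F α * k) Fintype.one_lt_card
    push_cast at e1
    rw [← pow_mul] at *
    rw [← e2, ← hcard]
    push_cast
    rw [pow_mul (q : ℤ), ← e1]
  · have h0 : sqSum F V α = 0 := by
      refine Finset.sum_eq_zero fun T _ => if_neg fun h => hd ?_
      exact dg_dvd_finrank α (aeval_ssPart h)
    rw [h0, mul_zero]

variable {α}

theorem pow_card_pow_eq_iff (n : ℕ) : α ^ q ^ n = α ↔ dg F α ∣ n := by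
  constructor
  · intro h
    refine (minpoly.irreducible (isIntegral' α)).natDegree_dvd_of_dvd_X_pow_card_pow_sub_X ?_
    exact minpoly.dvd F α (by simp [Nat.card_eq_fintype_card, h])
  · rintro ⟨i, rfl⟩
    exact pow_card_pow_dg α i

theorem pow_card_pow_injective (i : ℕ) : Function.Injective fun x : B => x ^ q ^ i := by
  intro x y h
  obtain ⟨p, hp⟩ := CharP.exists F
  obtain ⟨a, hpp, ha⟩ := FiniteField.card F p
  have : Fact p.Prime := ⟨hpp⟩
  have : CharP B p := charP_of_injective_algebraMap (algebraMap F B).injective p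
  simp only [ha, ← pow_mul] at h
  exact iterateFrobenius_inj B p _ (by simpa [iterateFrobenius_def] using h)

/-- The roots of the minimal polynomial are the Frobenius conjugates. -/
theorem sum_roots [DecidableEq (F[X])] (g : B → ℂ) :
    ∑ β : B, (if minpoly F β = minpoly F α then g β else 0) =
      ∑ i ∈ Finset.range (dg F α), g (α ^ q ^ i) := by
  classical
  rw [← Finset.sum_filter]
  have hinj : Set.InjOn (fun i => α ^ q ^ i) (Finset.range (dg F α)) := by
    have key : ∀ i j, i ≤ j → j < dg F α → α ^ q ^ i = α ^ q ^ j → i = j := by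
      intro i j hij hj h
      obtain ⟨l, rfl⟩ := Nat.exists_eq_add_of_le hij
      rw [add_comm i l, pow_add, pow_mul] at h
      have h1 := (pow_card_pow_eq_iff l).1 (pow_card_pow_injective (F := F) i h).symm
      rcases Nat.eq_zero_or_pos l with hl | hl
      · omega
      · have := Nat.le_of_dvd hl h1
        omega
    intro i hi j hj h
    rw [Finset.coe_range, Set.mem_Iio] at hi hj
    rcases le_total i j with hij | hij
    · exact key i j hij hj h
    · exact (key j i hij hi h.symm).symm
  have hsub : (Finset.range (dg F α)).image (fun i => α ^ q ^ i) ⊆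
      Finset.univ.filter fun β : B => minpoly F β = minpoly F α := by
    intro β hβ
    obtain ⟨i, -, rfl⟩ := Finset.mem_image.1 hβ
    refine Finset.mem_filter.2 ⟨Finset.mem_univ _, ?_⟩
    refine (minpoly.eq_of_irreducible_of_monic (minpoly.irreducible (isIntegral' α)) ?_
      (minpoly.monic (isIntegral' α))).symm
    rw [aeval_pow_card_pow, minpoly.aeval, zero_pow (pow_ne_zero _ Fintype.card_ne_zero)]
  have hcard : (Finset.univ.filter fun β : B => minpoly F β = minpoly F α).card ≤
      ((Finset.range (dg F α)).image fun i => α ^ q ^ i).card := by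
    rw [Finset.card_image_of_injOn hinj, Finset.card_range]
    refine le_trans (Finset.card_le_card (t := ((minpoly F α).aroots B).toFinset) fun β hβ => ?_) ?_
    · rw [Multiset.mem_toFinset, mem_aroots, ← (Finset.mem_filter.1 hβ).2]
      exact ⟨minpoly.ne_zero (isIntegral' β), minpoly.aeval F β⟩
    · refine (Multiset.toFinset_card_le _).trans ((card_roots' _).trans ?_)
      rw [natDegree_map]
      rfl
  rw [← Finset.eq_of_subset_of_card_le hsub hcard, Finset.sum_image hinj]

theorem sum_range_periodic (g : ℕ → ℂ) {d : ℕ} (hg : ∀ i, g (d + i) = g i) :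
    ∀ k, ∑ i ∈ Finset.range (d * k), g i = (k : ℂ) * ∑ i ∈ Finset.range d, g i
  | 0 => by simp
  | k + 1 => by
    rw [Nat.mul_succ, add_comm (d * k) d, Finset.sum_range_add,
      Finset.sum_congr rfl fun i _ => hg i, sum_range_periodic g hg k]
    push_cast
    ring

end Count

open scoped Classical in
/-- Orthogonality: inner products of Green functions reduce to inner products of characters of
the elliptic torus. -/
theorem sum_green_mul [Nontrivial V] [Fintype (Module.End F V)] (Θ Θ' : B →*₀ ℂ) :
    (((q : ℂ) ^ Module.finrank F V - 1)) *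
        ∑ T : Module.End F V, green Θ T * conj (green Θ' T) =
      QBinom.ind (q : ℂ) ((q : ℂ) ^ Module.finrank F V) (Module.finrank F V) *
        ∑ i ∈ Finset.range (Module.finrank F V),
          ∑ α : B, if α ^ q ^ Module.finrank F V = α then
            Θ α * conj (Θ' (α ^ q ^ i)) else 0 := by
  set n := Module.finrank F V
  have hpair : ∀ T : Module.End F V, green Θ T * conj (green Θ' T) =
      ∑ α : B, Θ α * (∑ β : B, if minpoly F β = minpoly F α then conj (Θ' β) else 0) *
        ((if IsNilpotent (aeval T (minpoly F α)) then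
          QBinom.cc ((q : ℤ) ^ dg F α) (tt α T) ^ 2 else 0 : ℤ) : ℂ) := by
    intro T
    simp only [green, map_sum, Finset.mul_sum, Finset.sum_mul]
    refine Finset.sum_comm.trans (Finset.sum_congr rfl fun α _ => Finset.sum_congr rfl fun β _ => ?_)
    have hcast : ∀ γ : B, ((QBinom.cc ((q : ℤ) ^ dg F γ) (tt γ T) : ℤ) : ℂ) =
        QBinom.cc ((q : ℂ) ^ dg F γ) (tt γ T) := fun γ => by
      rw [← eq_intCast (Int.castRingHom ℂ), NilpCount.map_cc]
      simp
    by_cases hα : IsNilpotent (aeval T (minpoly F α))
    · by_cases hβ : IsNilpotent (aeval T (minpoly F β))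
      · have he := minpoly_eq_of_isNilpotent hβ hα
        have hd : dg F β = dg F α := by rw [dg, dg, he]
        have ht : tt β T = tt α T := by rw [tt, tt, he, hd]
        rw [if_pos hα, if_pos hβ, if_pos he, if_pos hα, hd, ht, map_mul, ← hcast α,
          map_intCast (starRingEnd ℂ), Int.cast_pow]
        ring
      · have hne : minpoly F β ≠ minpoly F α := fun he => hβ (he ▸ hα)
        rw [if_neg hβ, if_neg hne]
        simp
    · rw [if_neg hα, if_neg hα]
      simp
  rw [Finset.sum_congr rfl fun T _ => hpair T, Finset.sum_comm, Finset.mul_sum,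
    Finset.sum_comm (s := Finset.range n), Finset.mul_sum]
  refine Finset.sum_congr rfl fun α _ => ?_
  rw [← Finset.mul_sum, ← Int.cast_sum, show (∑ T : Module.End F V,
    if IsNilpotent (aeval T (minpoly F α)) then QBinom.cc ((q : ℤ) ^ dg F α) (tt α T) ^ 2
      else 0) = sqSum F V α from rfl]
  have hS0 := sqSum_mul (F := F) (V := V) α
  rw [show Module.finrank F V = n from rfl] at hS0
  by_cases hd : dg F α ∣ n
  · rw [if_pos hd] at hS0
    have hfix := (pow_card_pow_eq_iff (F := F) (α := α) n).2 hd
    rw [Finset.sum_congr rfl fun i _ => if_pos hfix, ← Finset.mul_sum, sum_roots]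
    obtain ⟨k, hk⟩ := hd
    have hper := sum_range_periodic (fun i => conj (Θ' (α ^ q ^ i))) (d := dg F α)
      (fun i => by
        have := pow_card_pow_dg (F := F) α 1
        rw [mul_one] at this
        simp only [pow_add, pow_mul, this]) k
    have hind : ((QBinom.ind (q : ℤ) ((q : ℤ) ^ n) n : ℤ) : ℂ) =
        QBinom.ind (q : ℂ) ((q : ℂ) ^ n) n := by
      rw [← eq_intCast (Int.castRingHom ℂ), NilpCount.map_ind]
      simp
    rw [show n / dg F α = k from by rw [hk, Nat.mul_div_cancel_left _ (dg_pos α)]] at hS0
    have hS := congrArg (fun z : ℤ => (z : ℂ)) hS0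
    push_cast at hS
    rw [hind] at hS
    rw [← hk] at hper
    rw [hper]
    linear_combination (Θ α * ∑ i ∈ Finset.range (dg F α), conj (Θ' (α ^ q ^ i))) * hS
  · rw [if_neg hd] at hS0
    have hS := congrArg (fun z : ℤ => (z : ℂ)) hS0
    have hfix : α ^ q ^ n ≠ α := fun h => hd ((pow_card_pow_eq_iff n).1 h)
    rw [Finset.sum_congr rfl fun i _ => if_neg hfix]
    simp only [Finset.sum_const_zero, mul_zero]
    push_cast at hS
    linear_combination (Θ α * ∑ β : B, if minpoly F β = minpoly F α then conj (Θ' β) else 0) * hS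

end CfsgLib.GreenCuspidal.Green
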