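import Mathlib.LinearAlgebra.Projection
import Mathlib.LinearAlgebra.Dimension.Finrank
import Mathlib.LinearAlgebra.FiniteDimensional.Lemmas
import Mathlib.FieldTheory.Finite.Basic
import Mathlib.Data.Complex.Basic

/-!
# The Möbius function of a finite projective geometry
-/

set_option autoImplicit false

namespace CfsgLib.GreenCuspidal.Mobius

open Finset Submodule

variable {K : Type*} [Field K] [Fintype K]
variable {V : Type*} [AddCommGroup V] [Module K V] [Module.Finite K V]

/-- The number of complements of a line. -/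
theorem card_complements {W : Submodule K V} {v : V} (hv : v ∈ W) (hv0 : v ≠ 0) :
    Nat.card {W' : Submodule K V // W' ⊔ (K ∙ v) = W ∧ W' ≠ W} =
      Fintype.card K ^ (Module.finrank K W - 1) := by
  have : Finite V := Module.finite_of_finite K
  set ℓ := K ∙ v with hℓ
  have hℓW : ℓ ≤ W := (span_singleton_le_iff_mem v W).2 hv
  have hrk : Module.finrank K ℓ = 1 := finrank_span_singleton hv0
  set p : Submodule K W := ℓ.comap W.subtype with hp
  have hpmap : p.map W.subtype = ℓ := by
    rw [hp, map_comap_subtype, inf_eq_right.2 hℓW]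
  obtain ⟨q₀, hq₀⟩ := p.exists_isCompl
  let e1 : {q : Submodule K W // IsCompl p q} →
      {W' : Submodule K V // W' ⊔ ℓ = W ∧ W' ≠ W} := fun q =>
    ⟨q.1.map W.subtype, by
      rw [← hpmap, ← Submodule.map_sup, sup_comm, q.2.sup_eq_top, Submodule.map_top, range_subtype], fun h => by
      have hq : q.1 = ⊤ := map_injective_of_injective W.subtype_injective
        (h.trans (by rw [Submodule.map_top, range_subtype]))
      have hp0 : p = ⊥ := by simpa [hq] using q.2.inf_eq_bot
      rw [hp0, Submodule.map_bot] at hpmap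
      exact hv0 (span_singleton_eq_bot.1 hpmap.symm)⟩
  have he1 : Function.Bijective e1 := by
    refine ⟨fun a b h => Subtype.ext
      (map_injective_of_injective W.subtype_injective (congrArg Subtype.val h)), ?_⟩
    rintro ⟨W', h1, h2⟩
    have hle : W' ≤ W := h1 ▸ le_sup_left
    have hvW' : v ∉ W' := fun h => h2 (by
      rw [← h1, left_eq_sup]
      exact (span_singleton_le_iff_mem v W').2 h)
    have hmap : (W'.comap W.subtype).map W.subtype = W' := by
      rw [map_comap_subtype, inf_eq_right.2 hle]
    refine ⟨⟨W'.comap W.subtype, ⟨?_, ?_⟩⟩, Subtype.ext hmap⟩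
    · rw [disjoint_iff]
      refine map_injective_of_injective W.subtype_injective ?_
      rw [Submodule.map_inf _ W.subtype_injective, hpmap, hmap, Submodule.map_bot, eq_bot_iff]
      rintro x ⟨hx, hx'⟩
      obtain ⟨c, rfl⟩ := mem_span_singleton.1 hx
      rcases eq_or_ne c 0 with rfl | hc
      · simp
      · exact absurd (by simpa [smul_smul, inv_mul_cancel₀ hc] using W'.smul_mem c⁻¹ hx') hvW'
    · rw [codisjoint_iff]
      refine map_injective_of_injective W.subtype_injective ?_
      rw [Submodule.map_sup, hpmap, hmap, sup_comm, h1, Submodule.map_top, range_subtype]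
  let e2 : {f : W →ₗ[K] p // ∀ x : p, f x = x} ≃ (q₀ →ₗ[K] p) :=
    { toFun := fun f => f.1.comp q₀.subtype
      invFun := fun φ => ⟨LinearMap.ofIsCompl hq₀ LinearMap.id φ, fun x => by simp⟩
      left_inv := fun f => Subtype.ext (LinearMap.ofIsCompl_eq hq₀
        (fun x => (f.2 x).symm) fun x => rfl)
      right_inv := fun φ => LinearMap.ext fun x => by simp }
  rw [← Nat.card_congr (Equiv.ofBijective e1 he1),
    Nat.card_congr (p.isComplEquivProj.trans e2), Module.natCard_eq_pow_finrank (K := K),
    Nat.card_eq_fintype_card, Module.finrank_linearMap]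
  congr 1
  have h1 : Module.finrank K p = 1 := by
    rw [← hrk, ← hpmap]
    exact (LinearEquiv.finrank_eq (Submodule.equivMapOfInjective _ W.subtype_injective p))
  have h2 := Submodule.finrank_add_eq_of_isCompl hq₀
  rw [h1] at h2 ⊢
  omega

open scoped Classical in
/-- The Möbius function of the subspace lattice. -/
theorem mobius_eq [Fintype (Submodule K V)] (μ : Submodule K V → ℂ) (h0 : μ ⊥ = 1)
    (hrec : ∀ W : Submodule K V, W ≠ ⊥ → ∑ W' with W' ≤ W, μ W' = 0) :
    ∀ (k : ℕ) (W : Submodule K V), Module.finrank K W = k →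
      μ W = (-1) ^ k * ((Fintype.card K : ℂ)) ^ k.choose 2 := by
  intro k
  induction k with
  | zero =>
    intro W hW
    rw [Submodule.finrank_eq_zero.1 hW, h0]
    simp
  | succ k ih =>
    intro W hW
    have hWb : W ≠ ⊥ := by rintro rfl; simp at hW
    obtain ⟨v, hv, hv0⟩ := Submodule.exists_mem_ne_zero_of_ne_bot hWb
    set ℓ := K ∙ v with hℓ
    have hℓW : ℓ ≤ W := (span_singleton_le_iff_mem v W).2 hv
    have hℓ0 : ℓ ≠ ⊥ := by simp [hℓ, span_singleton_eq_bot, hv0]
    have hS : ∀ U : Submodule K V, ℓ ≤ U → ∑ W' with W' ⊔ ℓ = U, μ W' = 0 := by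
      intro U
      induction U using WellFoundedLT.induction with
      | ind U ihU =>
        intro hU
        have h := hrec U (fun h => hℓ0 (le_bot_iff.1 (h ▸ hU)))
        rw [← Finset.sum_fiberwise_of_maps_to (g := fun W' => W' ⊔ ℓ) (t := Finset.univ)
          (fun _ _ => Finset.mem_univ _), Finset.sum_eq_single U] at h
        · rw [← h, Finset.filter_filter]
          refine Finset.sum_congr (Finset.filter_congr fun W' _ => ?_) fun _ _ => rfl
          exact ⟨fun e => ⟨e ▸ le_sup_left, e⟩, fun e => e.2⟩
        · intro U' _ hne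
          rw [Finset.filter_filter]
          by_cases hU' : ℓ ≤ U' ∧ U' ≤ U
          · rw [← ihU U' (lt_of_le_of_ne hU'.2 hne) hU'.1]
            refine Finset.sum_congr (Finset.filter_congr fun W' _ => ?_) fun _ _ => rfl
            exact ⟨fun e => e.2, fun e => ⟨(e ▸ le_sup_left).trans hU'.2, e⟩⟩
          · refine Finset.sum_eq_zero fun W' hW' => ?_
            obtain ⟨-, h1, h2⟩ := Finset.mem_filter.1 hW'
            exact absurd ⟨h2 ▸ le_sup_right, h2 ▸ sup_le h1 hU⟩ hU'
        · exact fun hh => absurd (Finset.mem_univ _) hh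
    have hW' := hS W hℓW
    rw [← Finset.add_sum_erase _ _ (a := W) (by simp [sup_eq_left.2 hℓW])] at hW'
    have hrest : ∀ W' ∈ (Finset.univ.filter fun W' : Submodule K V => W' ⊔ ℓ = W).erase W,
        μ W' = (-1) ^ k * ((Fintype.card K : ℂ)) ^ k.choose 2 := by
      intro W' hm
      obtain ⟨hne, hm⟩ := Finset.mem_erase.1 hm
      have he : W' ⊔ ℓ = W := (Finset.mem_filter.1 hm).2
      refine ih W' ?_
      have hlt : W' < W := lt_of_le_of_ne (he ▸ le_sup_left) hne
      have h1 := Submodule.finrank_lt_finrank_of_lt hlt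
      have h2 : Module.finrank K W ≤ Module.finrank K W' + 1 := by
        rw [← he, ← finrank_span_singleton (K := K) hv0]
        exact Submodule.finrank_add_le_finrank_add_finrank _ _
      omega
    have hcard : ((Finset.univ.filter fun W' : Submodule K V => W' ⊔ ℓ = W).erase W).card =
        Fintype.card K ^ k := by
      rw [← Nat.add_sub_cancel k 1, ← hW, ← card_complements hv hv0, Nat.card_eq_fintype_card,
        Fintype.card_subtype]
      congr 1
      ext W'
      simp [hℓ, and_comm]
    rw [Finset.sum_congr rfl hrest, Finset.sum_const, nsmul_eq_mul, hcard] at hW'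
    rw [Nat.choose_succ_succ', Nat.choose_one_right, pow_succ, pow_add]
    push_cast at hW'
    linear_combination hW'

end CfsgLib.GreenCuspidal.Mobius
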