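import Cfsg.Agent.Lib.Char.Virtual
import Cfsg.Agent.Lib.Char.Integral
import Mathlib.GroupTheory.GroupAction.Quotient

/-!
# Sums over fixed points of virtual characters of stabilisers
-/

set_option autoImplicit false

open scoped ComplexConjugate
open MulAction

namespace CfsgLib.GreenCuspidal.VirtualTools

universe u

variable {A : Type u} [Group A]

theorem gen_zero : Cfsg.IsGeneralizedCharacter A (0 : A → ℂ) :=
  ⟨0, 0, Char.isCharacter_zero, Char.isCharacter_zero, (sub_zero _).symm⟩

theorem gen_one : Cfsg.IsGeneralizedCharacter A (fun _ => (1 : ℂ)) :=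
  Char.IsCharacter.isGeneralizedCharacter Char.isCharacter_one

theorem gen_neg {θ : A → ℂ} (hθ : Cfsg.IsGeneralizedCharacter A θ) :
    Cfsg.IsGeneralizedCharacter A (-θ) := by
  obtain ⟨a, b, ha, hb, rfl⟩ := hθ
  exact ⟨b, a, hb, ha, neg_sub a b⟩

theorem gen_add {θ η : A → ℂ} (hθ : Cfsg.IsGeneralizedCharacter A θ)
    (hη : Cfsg.IsGeneralizedCharacter A η) : Cfsg.IsGeneralizedCharacter A (θ + η) := by
  obtain ⟨a, b, ha, hb, rfl⟩ := hθ
  obtain ⟨c, d, hc, hd, rfl⟩ := hη
  exact ⟨a + c, b + d, Char.IsCharacter.add ha hc, Char.IsCharacter.add hb hd, by abel⟩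

theorem gen_sum {ι : Type*} (s : Finset ι) (f : ι → A → ℂ)
    (hf : ∀ i ∈ s, Cfsg.IsGeneralizedCharacter A (f i)) :
    Cfsg.IsGeneralizedCharacter A (fun a => ∑ i ∈ s, f i a) := by
  classical
  induction s using Finset.induction with
  | empty =>
    simp only [Finset.sum_empty]
    exact gen_zero
  | insert i t hit ih =>
    have := gen_add (hf i (Finset.mem_insert_self i t))
      (ih fun j hj => hf j (Finset.mem_insert_of_mem hj))
    simpa [Finset.sum_insert hit, Pi.add_def] using this

theorem gen_mul {θ η : A → ℂ} (hθ : Cfsg.IsGeneralizedCharacter A θ)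
    (hη : Cfsg.IsGeneralizedCharacter A η) :
    Cfsg.IsGeneralizedCharacter A (fun a => θ a * η a) := by
  obtain ⟨a, b, ha, hb, rfl⟩ := hθ
  obtain ⟨c, d, hc, hd, rfl⟩ := hη
  refine ⟨a * c + b * d, a * d + b * c,
    Char.IsCharacter.add (Char.IsCharacter.mul ha hc) (Char.IsCharacter.mul hb hd),
    Char.IsCharacter.add (Char.IsCharacter.mul ha hd) (Char.IsCharacter.mul hb hc), ?_⟩
  funext x
  simp only [Pi.sub_apply, Pi.add_apply, Pi.mul_apply]
  ring

theorem gen_pow {θ : A → ℂ} (hθ : Cfsg.IsGeneralizedCharacter A θ) :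
    ∀ n : ℕ, Cfsg.IsGeneralizedCharacter A (fun a => θ a ^ n)
  | 0 => by simpa using gen_one
  | n + 1 => by
    simpa [pow_succ] using gen_mul (gen_pow hθ n) hθ

theorem gen_intCast (z : ℤ) : Cfsg.IsGeneralizedCharacter A (fun _ => (z : ℂ)) := by
  induction z with
  | zero =>
    simp only [Int.cast_zero]
    exact gen_zero
  | succ i ih =>
    have := gen_add ih gen_one
    simpa [Pi.add_def] using this
  | pred i ih =>
    have := gen_add ih (gen_neg gen_one)
    simpa [Pi.add_def, Pi.neg_def, sub_eq_add_neg] using this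

theorem gen_comp {H : Type u} [Group H] {θ : A → ℂ} (hθ : Cfsg.IsGeneralizedCharacter A θ)
    (f : H →* A) : Cfsg.IsGeneralizedCharacter H (fun x => θ (f x)) := by
  obtain ⟨a, b, ha, hb, rfl⟩ := hθ
  exact ⟨_, _, Char.IsCharacter.comp ha f, Char.IsCharacter.comp hb f, rfl⟩

/-- A multiplicative map to `ℂˣ` is a virtual character. -/
theorem gen_hom [Finite A] (φ : A →* ℂˣ) : Cfsg.IsGeneralizedCharacter A (fun a => (φ a : ℂ)) :=
  Char.IsCharacter.isGeneralizedCharacter (Char.isCharacter_hom φ)

variable [Fintype A]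

/-- The sum over fixed points of virtual characters of the stabilisers is virtual. -/
theorem gen_fixSum {X : Type*} [Fintype X] [DecidableEq X] [MulAction A X] (f : X → A → ℂ)
    (hconj : ∀ (b : A) (x : X) (a : A), f (b • x) (b * a * b⁻¹) = f x a)
    (hvirt : ∀ x : X, Cfsg.IsGeneralizedCharacter (stabilizer A x)
      (fun a : stabilizer A x => f x a)) :
    Cfsg.IsGeneralizedCharacter A (fun a => ∑ x : X, if a • x = x then f x a else 0) := by
  classical
  refine Char.isGeneralizedCharacter_iff.2 ⟨fun a b => ?_, fun χ hχ => ?_⟩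
  · refine (Fintype.sum_equiv (MulAction.toPerm b) _ _ fun x => ?_).symm
    simp only [MulAction.toPerm_apply, hconj]
    refine if_congr ?_ rfl rfl
    rw [← mul_smul, inv_mul_cancel_right, mul_smul, smul_left_cancel_iff]
  · have hχc := Char.IsIrrCharacter.isClassFunction hχ
    let S : X → ℂ := fun x => ∑ a : A, if a • x = x then f x a * conj (χ a) else 0
    have hSconst : ∀ (b : A) (x : X), S (b • x) = S x := by
      intro b x
      refine (Fintype.sum_equiv (MulAut.conj b).toEquiv _ _ fun a => ?_).symm
      simp only [MulEquiv.toEquiv_eq_coe, MulEquiv.coe_toEquiv, MulAut.conj_apply, hconj, hχc a b]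
      refine if_congr ?_ rfl rfl
      rw [← mul_smul, inv_mul_cancel_right, mul_smul, smul_left_cancel_iff]
    have hint : ∀ x : X, ∃ z : ℤ, S x = (Nat.card (stabilizer A x) : ℂ) * z := by
      intro x
      obtain ⟨z, hz⟩ := Char.IsGeneralizedCharacter.classInner_int (hvirt x)
        (Char.IsCharacter.isGeneralizedCharacter
          (Char.IsCharacter.restrict (Char.IsIrrCharacter.isCharacter hχ) (stabilizer A x)))
      refine ⟨z, ?_⟩
      rw [← hz, Cfsg.classInner, ← mul_assoc,
        mul_inv_cancel₀ (by exact_mod_cast Nat.card_pos.ne'), one_mul]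
      simp only [S, ← Finset.sum_filter]
      exact Finset.sum_subtype _ (fun a => by simp [mem_stabilizer_iff]) fun a => f x a * conj (χ a)
    choose z hz using hint
    have hzc : ∀ (b : A) (x : X), z (b • x) = z x := by
      intro b x
      have h1 := hSconst b x
      rw [hz, hz] at h1
      have h2 : Nat.card (stabilizer A (b • x)) = Nat.card (stabilizer A x) := by
        have h3 := (stabilizer A (b • x)).index_mul_card
        have h4 := (stabilizer A x).index_mul_card
        have h5 : (stabilizer A (b • x)).index = (stabilizer A x).index := by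
          rw [MulAction.index_stabilizer, MulAction.index_stabilizer,
            MulAction.orbit_smul]
        rw [h5, ← h4] at h3
        exact Nat.eq_of_mul_eq_mul_left
          (Nat.pos_of_ne_zero Subgroup.index_ne_zero_of_finite) h3
      rw [h2] at h1
      exact_mod_cast mul_left_cancel₀ (by exact_mod_cast Nat.card_pos.ne') h1
    let Z : Quotient (orbitRel A X) → ℤ := Quotient.lift z fun x y h => by
      obtain ⟨b, rfl⟩ : x ∈ orbit A y := h
      exact hzc b y
    refine ⟨∑ ω : Quotient (orbitRel A X), Z ω, ?_⟩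
    rw [Cfsg.classInner]
    simp only [Finset.sum_mul, ite_mul, zero_mul]
    rw [Finset.sum_comm]
    show (Nat.card A : ℂ)⁻¹ * ∑ x : X, S x = _
    rw [← Finset.sum_fiberwise Finset.univ (Quotient.mk'' : X → Quotient (orbitRel A X)),
      Finset.mul_sum, Int.cast_sum]
    refine Finset.sum_congr rfl fun ω _ => ?_
    induction ω using Quotient.inductionOn' with
    | h x =>
      have hfib : ∀ y ∈ Finset.univ.filter
          (fun y : X => (Quotient.mk'' y : Quotient (orbitRel A X)) = Quotient.mk'' x),
          S y = (Nat.card (stabilizer A x) : ℂ) * z x := by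
        intro y hy
        obtain ⟨b, rfl⟩ : y ∈ orbit A x := Quotient.eq''.1 (Finset.mem_filter.1 hy).2
        rw [hSconst, hz]
      rw [Finset.sum_congr rfl hfib, Finset.sum_const, nsmul_eq_mul]
      have hcard : (Finset.univ.filter
          (fun y : X => (Quotient.mk'' y : Quotient (orbitRel A X)) = Quotient.mk'' x)).card *
            Nat.card (stabilizer A x) = Nat.card A := by
        rw [← (stabilizer A x).index_mul_card, MulAction.index_stabilizer, ← Fintype.card_subtype,
          ← Nat.card_eq_fintype_card]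
        congr 1
        exact Nat.card_congr (Equiv.subtypeEquivRight fun y => Quotient.eq'')
      rw [← hcard]
      show _ = (z x : ℂ)
      have hne := hcard ▸ (Nat.card_pos (α := A)).ne'
      push_cast
      field_simp
      exact mul_div_cancel_left₀ _ (by exact_mod_cast Nat.card_pos.ne')

/-- The permutation character of a finite `A`-set. -/
theorem gen_perm {X : Type*} [Fintype X] [MulAction A X] :
    Cfsg.IsGeneralizedCharacter A (fun a => (Nat.card {x : X // a • x = x} : ℂ)) := by
  classical
  have := gen_fixSum (A := A) (X := X) (fun _ _ => 1) (fun _ _ _ => rfl) fun x => gen_one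
  convert this using 2 with a
  rw [Nat.card_eq_fintype_card, Fintype.card_subtype, Finset.sum_boole]

/-- A rational algebraic integer with two coprime multipliers. -/
theorem exists_int_of_coprime {z : ℂ} {M N : ℕ} (hco : Nat.Coprime M N)
    (hM : IsIntegral ℤ ((M : ℂ) * z)) (hN : IsIntegral ℤ ((N : ℂ) * z))
    {r : ℚ} (hr : z = r) : ∃ k : ℤ, z = k := by
  have h1 : ((M.gcdA N : ℂ) * ((M : ℂ) * z) + (M.gcdB N : ℂ) * ((N : ℂ) * z)) = z := by
    have := congrArg (fun x : ℤ => (x : ℂ)) (Nat.gcd_eq_gcd_ab M N)
    rw [hco.gcd_eq_one] at this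
    push_cast at this
    linear_combination -z * this
  refine Char.exists_int_of_isIntegral_rat ?_ hr
  rw [← h1]
  exact (isIntegral_algebraMap (x := M.gcdA N)).mul hM |>.add
    ((isIntegral_algebraMap (x := M.gcdB N)).mul hN)

end CfsgLib.GreenCuspidal.VirtualTools
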