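import Cfsg.Agent.Lib.GreenCuspidal.Green
import Cfsg.Agent.Lib.GreenCuspidal.Mobius
import Cfsg.Agent.Lib.GreenCuspidal.VirtualTools

/-!
# Green's weights on a group acting linearly: virtual up to a power of `q`
-/

set_option autoImplicit false
set_option linter.unusedSectionVars false
set_option linter.overlappingInstances false

namespace CfsgLib.GreenCuspidal.LocalVirtual

open Polynomial CfsgLib.GreenCuspidal.EndBasics

universe u

variable {F : Type*} [Field F] [Fintype F]
variable {B : Type*} [Field B] [Algebra F B] [Fintype B]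
variable {W : Type*} [AddCommGroup W] [Module F W] [Module.Finite F W]
variable {A : Type u} [Group A]

local notation "q" => Fintype.card F

/-- The automorphism attached to an element of a group acting linearly. -/
def equivOf (ρ : A →* Module.End F W) (a : A) : W ≃ₗ[F] W :=
  LinearEquiv.ofLinearMap (ρ a) (ρ a⁻¹)
    (show ρ a * ρ a⁻¹ = 1 by rw [← map_mul, mul_inv_cancel, map_one])
    (show ρ a⁻¹ * ρ a = 1 by rw [← map_mul, inv_mul_cancel, map_one])

theorem equivOf_conj (ρ : A →* Module.End F W) (b a : A) :
    (equivOf ρ b).conjAlgEquiv F (ρ a) = ρ (b * a * b⁻¹) := by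
  rw [map_mul, map_mul]
  rfl

theorem injective_rho (ρ : A →* Module.End F W) (a : A) : Function.Injective (ρ a) :=
  (equivOf ρ a).injective

open scoped Classical in
/-- Green's weight of a semisimple element on its whole space. -/
noncomputable def gW (Θ : B →*₀ ℂ) (s : Module.End F W) : ℂ :=
  ∑ α : B, if aeval s (minpoly F α) = 0 then
    Θ α * QBinom.cc ((q : ℂ) ^ dg F α) (Module.finrank F W / dg F α) else 0

theorem gW_conj (Θ : B →*₀ ℂ) (g : W ≃ₗ[F] W) (s : Module.End F W) :
    gW Θ (g.conjAlgEquiv F s) = gW Θ s := by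
  classical
  refine Finset.sum_congr rfl fun α _ => if_congr ?_ rfl rfl
  rw [show aeval (g.conjAlgEquiv F s) (minpoly F α) = g.conjAlgEquiv F (aeval s (minpoly F α))
    from aeval_algHom_apply (g.conjAlgEquiv F).toAlgHom s _]
  exact (g.conjAlgEquiv F).map_eq_zero_iff

variable [Fintype (Submodule F W)]

open scoped Classical in
/-- The signed count of the chains of `s`-invariant subspaces ending at `U`. -/
noncomputable def eW [Module.Finite F W] (s : Module.End F W) (U : Submodule F W) : ℂ :=
  if U = ⊥ then 1
  else -∑ U' : {U' : Submodule F W // U' < U}, if U'.1.map s = U'.1 then eW s U'.1 else 0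
termination_by Module.finrank F U
decreasing_by exact Submodule.finrank_lt_finrank_of_lt U'.2

theorem eW_conj (g : W ≃ₗ[F] W) (s : Module.End F W) (U : Submodule F W) :
    eW (g.conjAlgEquiv F s) (U.map (g : W →ₗ[F] W)) = eW s U := by
  classical
  induction U using WellFoundedLT.induction with
  | ind U ih =>
    rw [eW, eW]
    by_cases hU : U = ⊥
    · rw [if_pos hU, if_pos (by rw [hU, Submodule.map_bot])]
    · rw [if_neg hU, if_neg (fun h => hU (Submodule.map_eq_bot_iff.1 h))]
      congr 1
      refine (Fintype.sum_equiv ((Submodule.orderIsoMapComap g).toEquiv.subtypeEquiv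
        (fun U' => ?_)) _ _ fun U' => ?_).symm
      · exact ((Submodule.orderIsoMapComap g).lt_iff_lt).symm
      · change _ = if (U'.1.map (g : W →ₗ[F] W)).map (g.conjAlgEquiv F s) = U'.1.map (g : W →ₗ[F] W)
          then eW (g.conjAlgEquiv F s) (U'.1.map (g : W →ₗ[F] W)) else 0
        refine if_congr ?_ (ih U'.1 U'.2).symm rfl
        rw [← Submodule.map_comp, show (g.conjAlgEquiv F s).comp (g : W →ₗ[F] W) =
          (g : W →ₗ[F] W).comp s from LinearMap.ext fun w => by
            simp [LinearEquiv.conjAlgEquiv_apply], Submodule.map_comp]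
        exact ((Submodule.map_injective_of_injective g.injective).eq_iff).symm

/-- `eW` is a virtual character. -/
theorem gen_eW : ∀ (U : Submodule F W) (C : Type u) [Group C] [Fintype C]
    (ρ : C →* Module.End F W), (∀ c, U.map (ρ c) = U) →
    Cfsg.IsGeneralizedCharacter C (fun c => eW (ρ c) U) := by
  classical
  intro U
  induction U using WellFoundedLT.induction with
  | ind U ih =>
    intro C _ _ ρ hU
    by_cases hb : U = ⊥
    · have : (fun c => eW (ρ c) U) = fun _ => (1 : ℂ) := funext fun c => by rw [eW, if_pos hb]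
      rw [this]
      exact VirtualTools.gen_one
    · let : MulAction C {U' : Submodule F W // U' < U} :=
        { smul := fun c U' => ⟨U'.1.map (ρ c), by
            have h := (Submodule.orderIsoMapComap (equivOf ρ c)).lt_iff_lt.2 U'.2
            change U'.1.map (ρ c) < U.map (ρ c) at h
            rwa [hU c] at h⟩
          one_smul := fun U' => Subtype.ext
            ((congrArg (fun s => U'.1.map s) (map_one ρ)).trans (Submodule.map_id _))
          mul_smul := fun b c U' => Subtype.ext
            ((congrArg (fun s => U'.1.map s) (map_mul ρ b c)).trans (Submodule.map_comp _ _ _)) }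
      have key := VirtualTools.gen_fixSum (A := C) (X := {U' : Submodule F W // U' < U})
        (fun U' c => eW (ρ c) U'.1) (fun b U' a => by
          show eW (ρ (b * a * b⁻¹)) (U'.1.map (ρ b)) = eW (ρ a) U'.1
          rw [← equivOf_conj]
          exact eW_conj (equivOf ρ b) (ρ a) U'.1) fun U' => by
          let : Fintype (MulAction.stabilizer C U') := Fintype.ofFinite _
          exact ih U'.1 U'.2 _ (ρ.comp (MulAction.stabilizer C U').subtype)
            fun c => congrArg Subtype.val (MulAction.mem_stabilizer_iff.1 c.2)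
      convert VirtualTools.gen_neg key using 1
      funext c
      rw [eW, if_neg hb]
      simp only [Pi.neg_apply]
      congr 1
      exact Finset.sum_congr rfl fun U' _ => if_congr ⟨fun h => Subtype.ext h, fun h => congrArg Subtype.val h⟩ rfl rfl

/-- The value of `eW` at a semisimple element. -/
theorem eW_eq {α : B} {s : Module.End F W} (hs : aeval s (minpoly F α) = 0)
    (hinj : Function.Injective s) :
    eW s ⊤ = (-1) ^ (Module.finrank F W / dg F α) *
      ((q : ℂ) ^ dg F α) ^ (Module.finrank F W / dg F α).choose 2 := by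
  classical
  set K := IntermediateField.adjoin F ({α} : Set B) with hK
  let : Fintype K := Fintype.ofFinite K
  set φ := toEnd α hs with hφ
  let : Module K W := Module.compHom W φ.toRingHom
  have : IsScalarTower F K W := ⟨fun c x v => by
    show φ (c • x) v = c • φ x v
    rw [map_smul]; rfl⟩
  have : Module.Finite K W := Module.Finite.of_restrictScalars_finite F K W
  let : Fintype (Submodule K W) :=
    Fintype.ofInjective _ (Submodule.restrictScalars_injective F K W)
  have hgen : φ (IntermediateField.AdjoinSimple.gen F α) = s := toEnd_gen α hs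
  have hinv : ∀ U : Submodule K W, (U.restrictScalars F).map s = U.restrictScalars F := by
    intro U
    refine Submodule.eq_of_le_of_finrank_eq ?_
      (Submodule.equivMapOfInjective s hinj (U.restrictScalars F)).finrank_eq.symm
    rintro _ ⟨w, hw, rfl⟩
    rw [← hgen]
    exact U.smul_mem (IntermediateField.AdjoinSimple.gen F α) hw
  have hlift : ∀ U : Submodule F W, U.map s = U → ∃ U' : Submodule K W,
      U'.restrictScalars F = U := by
    intro U hU
    refine ⟨{ U.toAddSubmonoid with smul_mem' := fun c v hv => ?_ }, rfl⟩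
    obtain ⟨f, hf⟩ :=
      (IntermediateField.adjoin.powerBasis (isIntegral' (F := F) α)).exists_eq_aeval' c
    rw [IntermediateField.adjoin.powerBasis_gen] at hf
    change φ c v ∈ U
    rw [hf, ← aeval_algHom_apply, hgen]
    clear hf
    induction f using Polynomial.induction_on' with
    | add f g hf hg =>
      rw [map_add, LinearMap.add_apply]
      exact U.add_mem hf hg
    | monomial k a =>
      rw [aeval_monomial, Module.End.mul_apply, Module.algebraMap_end_apply]
      refine U.smul_mem a ?_
      induction k with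
      | zero => simpa using hv
      | succ k ihk =>
        rw [pow_succ', Module.End.mul_apply, ← hU]
        exact Submodule.mem_map_of_mem ihk
  let μ : Submodule K W → ℂ := fun U => eW s (U.restrictScalars F)
  have h0 : μ ⊥ = 1 := by
    show eW s _ = 1
    rw [eW, if_pos (Submodule.restrictScalars_bot F K W)]
  have hrec : ∀ U : Submodule K W, U ≠ ⊥ → ∑ U' with U' ≤ U, μ U' = 0 := by
    intro U hU
    rw [← Finset.add_sum_erase (Finset.univ.filter fun U' : Submodule K W => U' ≤ U) μ (a := U)
      (Finset.mem_filter.2 ⟨Finset.mem_univ _, le_rfl⟩)]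
    show eW s _ + _ = 0
    rw [eW, if_neg (fun h => hU (Submodule.restrictScalars_injective F K W
      (h.trans (Submodule.restrictScalars_bot F K W).symm)))]
    rw [neg_add_eq_zero, ← Finset.sum_filter]
    refine (Finset.sum_bij
      (fun U' hU' => ⟨U'.restrictScalars F, lt_of_le_of_ne
        (fun x hx => (Finset.mem_filter.1 (Finset.mem_erase.1 hU').2).2 hx)
        (fun h => (Finset.mem_erase.1 hU').1 (Submodule.restrictScalars_injective F K W h))⟩)
      (fun U' _ => Finset.mem_filter.2 ⟨Finset.mem_univ _, hinv U'⟩)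
      (fun a _ b _ h => Submodule.restrictScalars_injective F K W (congrArg Subtype.val h))
      ?_ fun _ _ => rfl).symm
    intro U' hU'
    obtain ⟨U'', hU''⟩ := hlift U'.1 (Finset.mem_filter.1 hU').2
    refine ⟨U'', Finset.mem_erase.2 ⟨fun h => U'.2.ne (by rw [← hU'', h]), Finset.mem_filter.2
      ⟨Finset.mem_univ _, fun x hx => ?_⟩⟩, Subtype.ext hU''⟩
    exact U'.2.le (hU'' ▸ hx : x ∈ U'.1)
  have hdim : Module.finrank K W = Module.finrank F W / dg F α := by
    rw [← Module.finrank_mul_finrank F K W, finrank_adjoin, Nat.mul_div_cancel_left _ (dg_pos α)]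
  have hQ : (Fintype.card K : ℂ) = (q : ℂ) ^ dg F α := by
    rw [← Nat.card_eq_fintype_card, card_adjoin]
    push_cast
    rfl
  have h := Mobius.mobius_eq μ h0 hrec _ ⊤ (finrank_top K W)
  rw [hdim, hQ] at h
  rw [← h]
  show eW s ⊤ = eW s _
  rw [Submodule.restrictScalars_top]

theorem prod_pow_succ (Q : ℂ) (k : ℕ) :
    ∏ i ∈ Finset.range k, Q ^ (i + 1) = Q ^ (k + 1).choose 2 := by
  induction k with
  | zero => simp
  | succ k ih =>
    rw [Finset.prod_range_succ, ih, ← pow_add, Nat.choose_succ_succ' (k + 1) 1,
      Nat.choose_one_right, add_comm]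

/-- `(Q^k - Q) ⋯ (Q^k - Q^(k-1))` in terms of the weight. -/
theorem prod_eq_cc (Q : ℂ) (k : ℕ) :
    ∏ i ∈ Finset.range k, (Q ^ (k + 1) - Q ^ (i + 1)) =
      (-1) ^ k * Q ^ (k + 1).choose 2 * QBinom.cc Q (k + 1) := by
  rw [QBinom.cc, Nat.add_sub_cancel, ← Finset.prod_range_reflect (fun i => 1 - Q ^ (i + 1)) k,
    ← prod_pow_succ]
  conv_rhs => rw [← Finset.card_range k, ← Finset.prod_const, Finset.card_range,
    ← Finset.prod_mul_distrib, ← Finset.prod_mul_distrib]
  refine Finset.prod_congr rfl fun i hi => ?_
  have hi' := Finset.mem_range.1 hi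
  rw [show k + 1 = i + 1 + (k - 1 - i + 1) by omega, pow_add]
  ring

section Embeddings

variable (M : IntermediateField F B)

theorem mem_of_dg_dvd {β : B} (h : dg F β ∣ Module.finrank F M) : β ∈ M := by
  classical
  let : Fintype M := Fintype.ofFinite M
  have hcard : Fintype.card M = q ^ Module.finrank F M := Module.card_eq_pow_finrank
  have h1 : 1 < q ^ Module.finrank F M :=
    Nat.one_lt_pow Module.finrank_pos.ne' Fintype.one_lt_card
  set P : B[X] := X ^ (q ^ Module.finrank F M) - X with hP
  have hP0 : P ≠ 0 := FiniteField.X_pow_card_sub_X_ne_zero B h1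
  have hdeg : P.natDegree = q ^ Module.finrank F M := FiniteField.X_pow_card_sub_X_natDegree_eq B h1
  let S : Finset B := Finset.univ.map ⟨(Subtype.val : M → B), Subtype.val_injective⟩
  have hS : S ⊆ P.roots.toFinset := by
    intro x hx
    obtain ⟨y, -, rfl⟩ := Finset.mem_map.1 hx
    rw [Multiset.mem_toFinset, mem_roots hP0]
    have := congrArg Subtype.val (FiniteField.pow_card y)
    rw [hcard] at this
    simp [hP, IsRoot.def, sub_eq_zero] at this ⊢
    exact this
  have hle : P.roots.toFinset.card ≤ S.card := by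
    rw [Finset.card_map, Finset.card_univ, hcard, ← hdeg]
    exact (Multiset.toFinset_card_le _).trans (card_roots' _)
  obtain ⟨i, hi⟩ := h
  have hβ : β ∈ P.roots.toFinset := by
    rw [Multiset.mem_toFinset, mem_roots hP0]
    simp [hP, IsRoot.def, hi, pow_card_pow_dg β i]
  rw [← Finset.eq_of_subset_of_card_le hS hle] at hβ
  obtain ⟨y, -, rfl⟩ := Finset.mem_map.1 hβ
  exact y.2

theorem card_fibre {β : M} {s : Module.End F W} (hs : aeval s (minpoly F (β : B)) = 0)
    (hM : Module.finrank F M = Module.finrank F W) :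
    (Nat.card {ι : M →ₐ[F] Module.End F W // ι β = s} : ℂ) =
      -((-1) ^ (Module.finrank F W / dg F (β : B)) *
        ((q : ℂ) ^ dg F (β : B)) ^ (Module.finrank F W / dg F (β : B)).choose 2) *
        QBinom.cc ((q : ℂ) ^ dg F (β : B)) (Module.finrank F W / dg F (β : B)) := by
  classical
  set d := dg F (β : B) with hd
  obtain ⟨k, hk⟩ : d ∣ Module.finrank F W := dg_dvd_finrank _ hs
  set K := IntermediateField.adjoin F ({(β : B)} : Set B) with hK
  let : Fintype K := Fintype.ofFinite K
  let : Fintype M := Fintype.ofFinite M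
  have : Finite W := Module.finite_of_finite F
  have : Finite (Module.End F W) :=
    Finite.of_injective (fun f => (f : W → W)) DFunLike.coe_injective
  have : Finite (M →ₐ[F] Module.End F W) :=
    Finite.of_injective (fun f => (f : M → Module.End F W)) DFunLike.coe_injective
  have : Finite (K →ₐ[F] Module.End F W) :=
    Finite.of_injective (fun f => (f : K → Module.End F W)) DFunLike.coe_injective
  let : Fintype (K →ₐ[F] Module.End F W) := Fintype.ofFinite _
  have hKM : K ≤ M := IntermediateField.adjoin_simple_le_iff.2 β.2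
  let r : (M →ₐ[F] Module.End F W) → (K →ₐ[F] Module.End F W) :=
    fun ι => ι.comp (IntermediateField.inclusion hKM)
  have hkK : Module.finrank F W = Module.finrank F K * k := by rw [finrank_adjoin, hk]
  have hconst : ∀ φ ψ : K →ₐ[F] Module.End F W,
      Nat.card {ι // r ι = φ} = Nat.card {ι // r ι = ψ} := by
    intro φ ψ
    obtain ⟨g, hg⟩ := exists_conj hkK φ ψ
    refine Nat.card_congr
      { toFun := fun ι => ⟨(g.conjAlgEquiv F).toAlgHom.comp ι.1, by
          refine AlgHom.ext fun x => ?_
          show g.conjAlgEquiv F (r ι.1 x) = ψ x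
          rw [ι.2, hg]⟩
        invFun := fun ι => ⟨(g.conjAlgEquiv F).symm.toAlgHom.comp ι.1, by
          refine AlgHom.ext fun x => ?_
          show (g.conjAlgEquiv F).symm (r ι.1 x) = φ x
          rw [ι.2, hg, AlgEquiv.symm_apply_apply]⟩
        left_inv := fun ι => Subtype.ext (AlgHom.ext fun x => by simp)
        right_inv := fun ι => Subtype.ext (AlgHom.ext fun x => by simp) }
  have hfib : Nat.card {ι : M →ₐ[F] Module.End F W // ι β = s} =
      Nat.card {ι // r ι = toEnd (β : B) hs} := by
    refine Nat.card_congr (Equiv.subtypeEquivRight fun ι => ⟨fun h => ?_, fun h => ?_⟩)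
    · exact algHom_ext _ (h.trans (toEnd_gen _ hs).symm)
    · have := DFunLike.congr_fun h (IntermediateField.AdjoinSimple.gen F (β : B))
      rwa [toEnd_gen] at this
  have htot : Nat.card (M →ₐ[F] Module.End F W) =
      Nat.card (K →ₐ[F] Module.End F W) * Nat.card {ι // r ι = toEnd (β : B) hs} := by
    rw [← Nat.card_congr (Equiv.sigmaFiberEquiv r), Nat.card_sigma,
      Finset.sum_congr rfl fun φ _ => hconst φ (toEnd (β : B) hs), Finset.sum_const,
      Finset.card_univ, smul_eq_mul, Nat.card_eq_fintype_card (α := K →ₐ[F] Module.End F W)]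
  have h1 := card_algHom_mul (F := F) (K := M) (V := W) (k := 1) (by rw [hM, mul_one])
  have h2 := card_algHom_mul (F := F) (K := K) (V := W) (k := k) hkK
  rw [← h2, htot, ← hfib, mul_assoc] at h1
  have : Nonempty (K →ₐ[F] Module.End F W) := ⟨toEnd (β : B) hs⟩
  have hne : Nat.card (K →ₐ[F] Module.End F W) ≠ 0 :=
    (Nat.card_pos (α := K →ₐ[F] Module.End F W)).ne'
  have h3 := Nat.eq_of_mul_eq_mul_left (Nat.pos_of_ne_zero hne) h1
  have hcardK : Fintype.card K = q ^ d := by rw [← Nat.card_eq_fintype_card, card_adjoin]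
  have hcardM : Fintype.card M = q ^ Module.finrank F W := by
    rw [Module.card_eq_pow_finrank (K := F) (V := M), hM]
  rw [hcardK, hcardM, Finset.prod_range_one, pow_one, pow_zero] at h3
  have hk0 : k ≠ 0 := by
    intro h
    rw [h, mul_zero] at hk
    have := Module.finrank_pos (R := F) (M := M)
    omega
  rw [hk, Nat.mul_div_cancel_left _ (dg_pos _)]
  obtain ⟨k, rfl⟩ : ∃ j, k = j + 1 := ⟨k - 1, by omega⟩
  have hQ1 : 1 < q ^ d := Nat.one_lt_pow (dg_pos _).ne' Fintype.one_lt_card
  have h4 := congrArg (fun x : ℕ => (x : ℂ)) h3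
  rw [hk, pow_mul, Finset.prod_range_succ'] at h4
  simp only [Nat.cast_mul, Nat.cast_prod] at h4
  rw [Finset.prod_congr rfl (fun i hi => Nat.cast_sub (Nat.pow_le_pow_right (by omega)
      (Nat.succ_le_succ (Finset.mem_range.1 hi).le))),
    pow_zero, Nat.cast_sub (Nat.one_le_pow _ _ (by omega))] at h4
  push_cast at h4
  rw [prod_eq_cc] at h4
  have hne' : ((q : ℂ) ^ d) ^ (k + 1) - 1 ≠ 0 := by
    rw [sub_ne_zero]
    exact_mod_cast (Nat.one_lt_pow (Nat.succ_ne_zero k) hQ1).ne'
  refine mul_right_cancel₀ hne' (h4.trans ?_)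
  ring

variable [Fintype A]

/-- The sum over the embeddings of `M` is a virtual character. -/
theorem gen_embSum (Θ : B →*₀ ℂ) (ρ : A →* Module.End F W)
    (hM : Module.finrank F M = Module.finrank F W) :
    Cfsg.IsGeneralizedCharacter A (fun a => -eW (ρ a) ⊤ * gW Θ (ρ a)) := by
  classical
  have hW : 0 < Module.finrank F W := hM ▸ Module.finrank_pos
  have : Nontrivial W := Module.nontrivial_of_finrank_pos hW
  have : Finite W := Module.finite_of_finite F
  have : Finite (Module.End F W) :=
    Finite.of_injective (fun f => (f : W → W)) DFunLike.coe_injective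
  let : Fintype M := Fintype.ofFinite M
  have : Finite (M →ₐ[F] Module.End F W) :=
    Finite.of_injective (fun f => (f : M → Module.End F W)) DFunLike.coe_injective
  let : Fintype (M →ₐ[F] Module.End F W) := Fintype.ofFinite _
  let : MulAction A (M →ₐ[F] Module.End F W) :=
    { smul := fun b ι => ((equivOf ρ b).conjAlgEquiv F).toAlgHom.comp ι
      one_smul := fun ι => AlgHom.ext fun x => by
        show ρ 1 * ι x * ρ 1⁻¹ = ι x
        rw [inv_one, map_one, one_mul, mul_one]
      mul_smul := fun b c ι => AlgHom.ext fun x => by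
        show ρ (b * c) * ι x * ρ (b * c)⁻¹ = ρ b * (ρ c * ι x * ρ c⁻¹) * ρ b⁻¹
        rw [mul_inv_rev, map_mul, map_mul]
        simp only [mul_assoc] }
  let f : (M →ₐ[F] Module.End F W) → A → ℂ := fun ι a =>
    ∑ β : M, if ι β = ρ a then Θ (β : B) else 0
  have hone : ∀ b : A, ρ b⁻¹ * ρ b = 1 := fun b => by rw [← map_mul, inv_mul_cancel, map_one]
  have hone' : ∀ b : A, ρ b * ρ b⁻¹ = 1 := fun b => by rw [← map_mul, mul_inv_cancel, map_one]
  have key := VirtualTools.gen_fixSum f (fun b ι a => ?_) fun ι => ?_
  · convert key using 1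
    funext a
    have hfix : ∀ ι, (if a • ι = ι then f ι a else 0) = f ι a := by
      intro ι
      split_ifs with h
      · rfl
      · refine (Finset.sum_eq_zero fun β _ => if_neg fun hβ => h (AlgHom.ext fun x => ?_)).symm
        show ρ a * ι x * ρ a⁻¹ = ι x
        rw [← hβ, ← map_mul, mul_comm β x, map_mul, mul_assoc, hβ, hone', mul_one]
    rw [Finset.sum_congr rfl fun ι _ => hfix ι, Finset.sum_comm, gW, Finset.mul_sum]
    rw [← Finset.sum_subset (Finset.subset_univ
      (Finset.univ.map ⟨(Subtype.val : M → B), Subtype.val_injective⟩)) fun β _ hβ => ?_,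
      Finset.sum_map]
    · refine Finset.sum_congr rfl fun β _ => ?_
      rw [← Finset.sum_filter, Finset.sum_const, nsmul_eq_mul, ← Fintype.card_subtype,
        ← Nat.card_eq_fintype_card (α := {ι : M →ₐ[F] Module.End F W // ι β = ρ a})]
      by_cases hs : aeval (ρ a) (minpoly F (β : B)) = 0
      · rw [card_fibre M hs hM, Function.Embedding.coeFn_mk, if_pos hs,
          eW_eq hs (injective_rho ρ a)]
        ring
      · have : IsEmpty {ι : M →ₐ[F] Module.End F W // ι β = ρ a} := ⟨fun ι => hs (by
          rw [← ι.2, aeval_algHom_apply, ← IntermediateField.minpoly_eq, minpoly.aeval, map_zero])⟩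
        rw [Function.Embedding.coeFn_mk, if_neg hs, Nat.card_of_isEmpty]
        simp
    · rw [if_neg, mul_zero]
      intro hs
      refine hβ (Finset.mem_map.2 ⟨⟨β, mem_of_dg_dvd M ?_⟩, Finset.mem_univ _, rfl⟩)
      rw [hM]
      exact dg_dvd_finrank β hs
  · refine Finset.sum_congr rfl fun β _ => if_congr ?_ rfl rfl
    show ρ b * ι β * ρ b⁻¹ = ρ (b * a * b⁻¹) ↔ _
    rw [map_mul, map_mul]
    refine ⟨fun h => ?_, fun h => by rw [h]⟩
    have := congrArg (fun z => ρ b⁻¹ * z * ρ b) h
    simpa [← mul_assoc, hone b, mul_assoc _ (ρ b⁻¹) (ρ b)] using this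
  · have hinj : Function.Injective ι := ι.toRingHom.injective
    have hex : ∀ a : MulAction.stabilizer A ι, ∃ β : M, ι β = ρ a := by
      intro a
      obtain ⟨v, hv⟩ := exists_ne (0 : W)
      have hbij : Function.Bijective fun c : M => ι c v := by
        refine (Nat.bijective_iff_injective_and_card _).2 ⟨fun c c' h => ?_, ?_⟩
        · by_contra hne
          have h0 : ι (c - c') v = 0 := by
            rw [map_sub, LinearMap.sub_apply, sub_eq_zero]
            exact h
          have h1 : (ι (c - c')⁻¹ * ι (c - c')) v = v := by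
            rw [← map_mul, inv_mul_cancel₀ (sub_ne_zero.2 hne), map_one, Module.End.one_apply]
          rw [Module.End.mul_apply, h0, map_zero] at h1
          exact hv h1.symm
        · rw [Module.natCard_eq_pow_finrank (K := F) (V := M),
            Module.natCard_eq_pow_finrank (K := F) (V := W), hM]
      obtain ⟨β, hβ⟩ := hbij.2 (ρ a v)
      refine ⟨β, LinearMap.ext fun w => ?_⟩
      obtain ⟨c, rfl⟩ := hbij.2 w
      have hcomm : ρ a * ι c = ι c * ρ a := by
        have := DFunLike.congr_fun (MulAction.mem_stabilizer_iff.1 a.2) c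
        change ρ a * ι c * ρ a⁻¹ = ι c at this
        conv_rhs => rw [← this, mul_assoc, hone, mul_one]
      have h1 := congrArg (fun T : Module.End F W => T v) hcomm
      simp only [Module.End.mul_apply] at h1 hβ ⊢
      rw [h1, ← hβ, ← Module.End.mul_apply, ← map_mul, mul_comm, map_mul, Module.End.mul_apply]
    choose β hβ using hex
    let φ : MulAction.stabilizer A ι →* B :=
      { toFun := fun a => (β a : B)
        map_one' := by
          rw [show β 1 = 1 from hinj (by rw [hβ, map_one]; exact map_one ρ)]
          rfl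
        map_mul' := fun a b => by
          rw [show β (a * b) = β a * β b from hinj (by
            rw [map_mul, hβ, hβ, hβ]; exact map_mul ρ _ _)]
          rfl }
    have heq : (fun a : MulAction.stabilizer A ι => f ι a) =
        fun a => (((Θ.toMonoidHom.comp φ).toHomUnits a : ℂˣ) : ℂ) := by
      funext a
      show f ι a = Θ (β a : B)
      exact (Finset.sum_eq_single (β a) (fun γ _ hne => if_neg fun h =>
        hne (hinj (h.trans (hβ a).symm))) fun h => absurd (Finset.mem_univ _) h).trans
        (if_pos (hβ a))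
    rw [heq]
    exact VirtualTools.gen_hom _

end Embeddings

variable [Fintype A]

/-- Up to a power of `q`, Green's weight is a virtual character. -/
theorem exists_pow_mul_gen_gW (Θ : B →*₀ ℂ) (ρ : A →* Module.End F W) (M : IntermediateField F B)
    (hM : Module.finrank F M = Module.finrank F W) :
    ∃ N : ℕ, Cfsg.IsGeneralizedCharacter A (fun a => (q : ℂ) ^ N * gW Θ (ρ a)) := by
  classical
  set m := Module.finrank F W
  let v : ℕ → ℤ := fun d => (-1) ^ (m / d) * ((q : ℤ) ^ d) ^ (m / d).choose 2
  have he := gen_eW (⊤ : Submodule F W) A ρ fun a => by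
    rw [Submodule.map_top, LinearMap.range_eq_top]
    exact (equivOf ρ a).surjective
  have hR : ∀ S : Finset ℕ, ∃ R : A → ℂ, Cfsg.IsGeneralizedCharacter A R ∧ ∀ a,
      ∏ d ∈ S, (eW (ρ a) ⊤ - (v d : ℂ)) = ∏ d ∈ S, (-(v d) : ℂ) + eW (ρ a) ⊤ * R a := by
    intro S
    induction S using Finset.induction with
    | empty => exact ⟨0, VirtualTools.gen_zero, fun a => by simp⟩
    | insert d S hd ih =>
      obtain ⟨R, hR, hR'⟩ := ih
      refine ⟨fun a => ((∏ e ∈ S, -(v e) : ℤ) : ℂ) + (eW (ρ a) ⊤ + ((-v d : ℤ) : ℂ)) * R a,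
        VirtualTools.gen_add (VirtualTools.gen_intCast _)
          (VirtualTools.gen_mul (VirtualTools.gen_add he (VirtualTools.gen_intCast _)) hR),
        fun a => ?_⟩
      rw [Finset.prod_insert hd, Finset.prod_insert hd, hR' a]
      push_cast
      ring
  obtain ⟨R, hR, hR'⟩ := hR (Finset.range (m + 1))
  set c : ℤ := ∏ d ∈ Finset.range (m + 1), -(v d) with hc
  have hkill : ∀ a, (∏ d ∈ Finset.range (m + 1), (eW (ρ a) ⊤ - (v d : ℂ))) * gW Θ (ρ a) = 0 := by
    intro a
    rw [gW, Finset.mul_sum]
    refine Finset.sum_eq_zero fun α _ => ?_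
    split_ifs with hs
    · rw [Finset.prod_eq_zero (Finset.mem_range.2 (Nat.lt_succ_of_le
        (Nat.le_of_dvd (lt_of_lt_of_eq Module.finrank_pos hM) (dg_dvd_finrank α hs)))), zero_mul]
      rw [eW_eq hs (injective_rho ρ a)]
      simp [v, m]
    · exact mul_zero _
  have hgen : Cfsg.IsGeneralizedCharacter A (fun a => (c : ℂ) * gW Θ (ρ a)) := by
    convert VirtualTools.gen_mul hR (gen_embSum M Θ ρ hM) using 1
    funext a
    have h := hkill a
    rw [hR', add_mul] at h
    rw [hc]
    push_cast
    linear_combination h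
  refine ⟨2 * ∑ d ∈ Finset.range (m + 1), d * (m / d).choose 2, ?_⟩
  convert VirtualTools.gen_mul (VirtualTools.gen_intCast c) hgen using 1
  funext a
  rw [← mul_assoc]
  congr 1
  rw [hc]
  push_cast
  rw [← Finset.prod_mul_distrib, Finset.mul_sum, ← Finset.prod_pow_eq_pow_sum]
  refine Finset.prod_congr rfl fun d _ => ?_
  simp only [v]
  push_cast
  rw [← pow_mul, neg_mul_neg, mul_mul_mul_comm, ← pow_add, ← pow_add, ← two_mul, ← two_mul,
    pow_mul (-1 : ℂ), neg_one_sq, one_pow, one_mul]

end CfsgLib.GreenCuspidal.LocalVirtual
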