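import Mathlib.Algebra.Polynomial.BigOperators
import Mathlib.Algebra.Polynomial.Eval.SMul
import Mathlib.Data.Nat.Choose.Basic
import Mathlib.Tactic.Ring
import Mathlib.Tactic.FieldSimp
import Mathlib.Tactic.LinearCombination

/-!
# Gaussian binomial coefficients and the weights of Green's cuspidal class function
-/

set_option autoImplicit false

namespace CfsgLib.GreenCuspidal.QBinom

open Finset

section Ring

variable {R : Type*} [CommRing R]

/-- Gaussian binomial coefficient. -/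
def gb (Q : R) : ℕ → ℕ → R
  | _, 0 => 1
  | 0, _ + 1 => 0
  | n + 1, j + 1 => gb Q n j + Q ^ (j + 1) * gb Q n (j + 1)

/-- `(Q - 1)(Q^2 - 1) ⋯ (Q^j - 1)`. -/
def phi (Q : R) (j : ℕ) : R := ∏ i ∈ range j, (Q ^ (i + 1) - 1)

/-- `(X - 1)(X - Q) ⋯ (X - Q^(j-1))`: the number of independent `j`-tuples when `X = Q^t`. -/
def ind (Q X : R) (j : ℕ) : R := ∏ i ∈ range j, (X - Q ^ i)

/-- `(1 - x)(1 - xQ) ⋯ (1 - xQ^(m-1))`. -/
def E (Q x : R) (m : ℕ) : R := ∏ i ∈ range m, (1 - x * Q ^ i)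

/-- The weight `(1 - Q) ⋯ (1 - Q^(t-1))`. -/
def cc (Q : R) (t : ℕ) : R := ∏ i ∈ range (t - 1), (1 - Q ^ (i + 1))

variable (Q : R)

@[simp] theorem gb_zero (n : ℕ) : gb Q n 0 = 1 := by cases n <;> rfl

theorem gb_zero_succ (j : ℕ) : gb Q 0 (j + 1) = 0 := rfl

theorem gb_succ_succ (n j : ℕ) :
    gb Q (n + 1) (j + 1) = gb Q n j + Q ^ (j + 1) * gb Q n (j + 1) := rfl

theorem gb_eq_zero : ∀ {n j : ℕ}, n < j → gb Q n j = 0
  | _, 0, h => absurd h (Nat.not_lt_zero _)
  | 0, _ + 1, _ => rfl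
  | n + 1, j + 1, h => by
    rw [gb_succ_succ, gb_eq_zero (by omega), gb_eq_zero (show n < j + 1 by omega)]
    ring

theorem gb_self : ∀ n : ℕ, gb Q n n = 1
  | 0 => rfl
  | n + 1 => by rw [gb_succ_succ, gb_self n, gb_eq_zero Q (Nat.lt_succ_self n)]; ring

theorem phi_succ (j : ℕ) : phi Q (j + 1) = phi Q j * (Q ^ (j + 1) - 1) := Finset.prod_range_succ _ _

@[simp] theorem phi_zero : phi Q 0 = 1 := rfl

theorem gb_mul_phi : ∀ n j : ℕ, j ≤ n → gb Q n j * phi Q j * phi Q (n - j) = phi Q n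
  | n, 0, _ => by simp
  | 0, j + 1, h => absurd h (by omega)
  | n + 1, j + 1, h => by
    rw [gb_succ_succ, Nat.succ_sub_succ]
    rcases Nat.lt_or_ge j n with hj | hj
    · obtain ⟨m, rfl⟩ := Nat.exists_eq_add_of_lt hj
      have h1 := gb_mul_phi (j + m + 1) j (by omega)
      have h2 := gb_mul_phi (j + m + 1) (j + 1) (by omega)
      rw [show j + m + 1 - j = m + 1 by omega] at h1 ⊢
      rw [show j + m + 1 - (j + 1) = m by omega] at h2
      rw [phi_succ Q (j + m + 1), phi_succ Q j, phi_succ Q m] at *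
      linear_combination (Q ^ (j + 1) - 1) * h1 + Q ^ (j + 1) * (Q ^ (m + 1) - 1) * h2
    · obtain rfl : j = n := le_antisymm (by omega) hj
      rw [gb_self, gb_eq_zero Q (Nat.lt_succ_self j), Nat.sub_self, phi_zero]
      ring

theorem choose_two_succ (j : ℕ) : (j + 1).choose 2 = j + j.choose 2 := by
  rw [Nat.choose_succ_succ, Nat.choose_one_right]

theorem choose_two_add (j : ℕ) : ∀ i, (j + i).choose 2 = j.choose 2 + i.choose 2 + j * i
  | 0 => by simp
  | i + 1 => by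
    rw [← add_assoc, choose_two_succ, choose_two_succ, choose_two_add j i]
    ring

theorem ind_pow_eq : ∀ t j : ℕ, ind Q (Q ^ t) j = Q ^ j.choose 2 * gb Q t j * phi Q j
  | t, 0 => by simp [ind]
  | 0, j + 1 => by
    rw [gb_zero_succ, ind, Finset.prod_eq_zero (i := 0) (by simp) (by simp)]
    ring
  | t + 1, j + 1 => by
    have h1 := ind_pow_eq t j
    have h2 := ind_pow_eq t (j + 1)
    have e1 : ind Q (Q ^ t) (j + 1) = ind Q (Q ^ t) j * (Q ^ t - Q ^ j) :=
      Finset.prod_range_succ _ _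
    have e2 : ind Q (Q ^ (t + 1)) (j + 1) = (Q ^ (t + 1) - 1) * Q ^ j * ind Q (Q ^ t) j := by
      rw [ind, Finset.prod_range_succ', ind]
      have : ∀ i, Q ^ (t + 1) - Q ^ (i + 1) = Q * (Q ^ t - Q ^ i) := fun i => by ring
      simp only [this, Finset.prod_mul_distrib, Finset.prod_const, Finset.card_range]
      ring
    rw [gb_succ_succ, e2, choose_two_succ, phi_succ, pow_add]
    rw [e1, choose_two_succ, phi_succ, pow_add] at h2
    linear_combination (Q ^ j * (Q ^ (j + 1) - 1)) * h1 + Q ^ (j + 1) * h2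

theorem ind_pow_eq_zero {t j : ℕ} (h : t < j) : ind Q (Q ^ t) j = 0 :=
  Finset.prod_eq_zero (i := t) (Finset.mem_range.2 h) (by simp)

/-- The `q`-binomial theorem. -/
theorem E_eq_sum : ∀ (m : ℕ) (x : R),
    E Q x m = ∑ j ∈ range (m + 1), (-1) ^ j * Q ^ j.choose 2 * gb Q m j * x ^ j
  | 0, x => by simp [E]
  | m + 1, x => by
    set f : ℕ → R := fun j => (-1) ^ j * Q ^ j.choose 2 * gb Q m j * (x * Q) ^ j with hf
    have hrec : E Q x (m + 1) = (1 - x) * ∑ j ∈ range (m + 1), f j := by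
      rw [E, Finset.prod_range_succ', hf, ← E_eq_sum m (x * Q), E, mul_comm]
      congr 1
      · simp
      · exact Finset.prod_congr rfl fun i _ => by rw [pow_succ]; ring
    have hterm : ∀ j, (-1 : R) ^ (j + 1) * Q ^ (j + 1).choose 2 * gb Q (m + 1) (j + 1) * x ^ (j + 1)
        = f (j + 1) - x * f j := fun j => by
      simp only [hf, gb_succ_succ, choose_two_succ, pow_add, mul_pow, pow_one]
      ring
    have hlast : f (m + 1) = 0 := by simp [hf, gb_eq_zero Q (Nat.lt_succ_self m)]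
    have h1 := Finset.sum_range_succ' f (m + 1)
    have h2 := Finset.sum_range_succ f (m + 1)
    have h0 : f 0 = 1 := by simp [hf]
    rw [hrec, Finset.sum_range_succ' _ (m + 1), Finset.sum_congr rfl fun j _ => hterm j,
      Finset.sum_sub_distrib, ← Finset.mul_sum]
    simp only [pow_zero, mul_one, gb_zero, Nat.choose_zero_succ]
    linear_combination h1 - h2 - hlast + h0

/-- `cc` as an alternating sum. -/
def cs (k : ℕ) (t : ℕ) : R :=
  ∑ j ∈ range (k + 1), (-1) ^ (j + 1) * (j : R) * Q ^ j.choose 2 * gb Q t j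

theorem cs_mono {k t : ℕ} (h : t ≤ k) : cs Q k t = cs Q t t := by
  rw [cs, cs]
  refine (Finset.sum_subset (Finset.range_subset_range.2 (by omega)) fun j hj hj' => ?_).symm
  rw [gb_eq_zero Q (by simpa using hj'), mul_zero]

theorem cs_zero (k : ℕ) : cs Q k 0 = 0 := by
  rw [cs_mono Q (Nat.zero_le k)]
  simp [cs]

theorem cs_eq_cc {k t : ℕ} (h : t ≤ k) (ht : t ≠ 0) : cs Q k t = cc Q t := by
  rw [cs_mono Q h]
  obtain ⟨t, rfl⟩ := Nat.exists_eq_add_one_of_ne_zero ht
  set f : ℕ → R := fun j => (-1) ^ j * Q ^ j.choose 2 * gb Q t j * Q ^ j with hf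
  have hterm : ∀ j, (-1 : R) ^ (j + 1 + 1) * ((j + 1 : ℕ) : R) * Q ^ (j + 1).choose 2 *
      gb Q (t + 1) (j + 1) = ((j + 1 : ℕ) : R) * f j - ((j + 1 : ℕ) : R) * f (j + 1) := fun j => by
    simp only [hf, gb_succ_succ, choose_two_succ, pow_add, pow_one]
    ring
  have hcc : cc Q (t + 1) = ∑ j ∈ range (t + 1), f j := by
    rw [hf, ← E_eq_sum Q t Q, cc, E, Nat.add_sub_cancel]
    exact Finset.prod_congr rfl fun i _ => by ring
  have h1 : ∑ j ∈ range (t + 1), ((j + 1 : ℕ) : R) * f (j + 1) =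
      ∑ j ∈ range (t + 1), (j : R) * f j := by
    have e := Finset.sum_range_succ' (fun j : ℕ => (j : R) * f j) (t + 1)
    have e' := Finset.sum_range_succ (fun j : ℕ => (j : R) * f j) (t + 1)
    have hl : f (t + 1) = 0 := by simp [hf, gb_eq_zero Q (Nat.lt_succ_self t)]
    rw [e'] at e
    simp only [hl, mul_zero, add_zero, Nat.cast_zero, zero_mul] at e
    exact e.symm
  rw [cs, Finset.sum_range_succ', Finset.sum_congr rfl fun j _ => hterm j, Finset.sum_sub_distrib,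
    h1, hcc, ← Finset.sum_sub_distrib]
  simp only [Nat.cast_zero, mul_zero, zero_mul, add_zero]
  exact Finset.sum_congr rfl fun j _ => by push_cast; ring

end Ring

section Field

variable {K : Type*} [Field K] (Q : K) (hQ : ∀ j, phi Q j ≠ 0)

include hQ in
theorem gb_trinomial {k s i : ℕ} (h : s + i ≤ k) :
    gb Q k (s + i) * gb Q (s + i) s = gb Q k s * gb Q (k - s) i := by
  have h1 := gb_mul_phi Q k (s + i) h
  have h2 := gb_mul_phi Q (s + i) s (by omega)
  have h3 := gb_mul_phi Q k s (by omega)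
  have h4 := gb_mul_phi Q (k - s) i (by omega)
  rw [Nat.add_sub_cancel_left] at h2
  rw [show k - s - i = k - (s + i) by omega] at h4
  apply mul_right_cancel₀ (mul_ne_zero (mul_ne_zero (hQ s) (hQ i)) (hQ (k - (s + i))))
  calc gb Q k (s + i) * gb Q (s + i) s * (phi Q s * phi Q i * phi Q (k - (s + i)))
      = gb Q k (s + i) * (gb Q (s + i) s * phi Q s * phi Q i) * phi Q (k - (s + i)) := by ring
    _ = phi Q k := by rw [h2, h1]
    _ = gb Q k s * phi Q s * phi Q (k - s) := h3.symm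
    _ = gb Q k s * phi Q s * (gb Q (k - s) i * phi Q i * phi Q (k - (s + i))) := by rw [h4]
    _ = _ := by ring

include hQ in
theorem gb_mul_ind {k s i : ℕ} (h : s + i ≤ k) :
    gb Q k (s + i) * ind Q (Q ^ (s + i)) s = ind Q (Q ^ k) s * gb Q (k - s) i := by
  rw [ind_pow_eq, ind_pow_eq]
  linear_combination Q ^ s.choose 2 * phi Q s * gb_trinomial Q hQ h

include hQ in
theorem gb_succ_succ' {m r : ℕ} (h : r ≤ m) :
    gb Q (m + 1) (r + 1) = gb Q m (r + 1) + Q ^ (m - r) * gb Q m r := by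
  rcases Nat.lt_or_ge r m with hr | hr
  · obtain ⟨l, rfl⟩ := Nat.exists_eq_add_of_lt hr
    have h1 := gb_mul_phi Q (r + l + 1 + 1) (r + 1) (by omega)
    have h2 := gb_mul_phi Q (r + l + 1) (r + 1) (by omega)
    have h3 := gb_mul_phi Q (r + l + 1) r (by omega)
    rw [show r + l + 1 + 1 - (r + 1) = l + 1 by omega, phi_succ Q (r + l + 1)] at h1
    rw [show r + l + 1 - (r + 1) = l by omega] at h2
    rw [show r + l + 1 - r = l + 1 by omega] at h3 ⊢
    apply mul_right_cancel₀ (mul_ne_zero (hQ (r + 1)) (hQ (l + 1)))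
    rw [phi_succ Q r, phi_succ Q l] at *
    linear_combination h1 - (Q ^ (l + 1) - 1) * h2 - Q ^ (l + 1) * (Q ^ (r + 1) - 1) * h3
  · obtain rfl : r = m := le_antisymm h hr
    rw [gb_self, gb_self, gb_eq_zero Q (Nat.lt_succ_self r), Nat.sub_self]
    simp

include hQ in
theorem sum_gb_E : ∀ (m : ℕ) (x : K),
    ∑ r ∈ range (m + 1), gb Q m r * x ^ r * E Q x (m - r) = 1
  | 0, x => by simp [E]
  | m + 1, x => by
    set g : ℕ → K := fun r => gb Q m r * x ^ r * E Q x (m + 1 - r) with hg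
    have hterm : ∀ r ∈ range (m + 1),
        gb Q (m + 1) (r + 1) * x ^ (r + 1) * E Q x (m + 1 - (r + 1)) =
          g (r + 1) + gb Q m r * x ^ r * E Q x (m - r) - g r := fun r hr => by
      have hr' : r ≤ m := Nat.lt_succ_iff.1 (Finset.mem_range.1 hr)
      have hE : E Q x (m + 1 - r) = E Q x (m - r) * (1 - x * Q ^ (m - r)) := by
        rw [show m + 1 - r = m - r + 1 by omega]
        exact Finset.prod_range_succ _ _
      simp only [hg]
      rw [gb_succ_succ' Q hQ hr', hE, Nat.succ_sub_succ, pow_succ]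
      ring
    have h1 := Finset.sum_range_succ' g (m + 1)
    have h2 := Finset.sum_range_succ g (m + 1)
    have hlast : g (m + 1) = 0 := by simp [hg, gb_eq_zero Q (Nat.lt_succ_self m)]
    have h0 : g 0 = E Q x (m + 1) := by simp [hg]
    rw [Finset.sum_range_succ', Finset.sum_congr rfl hterm, Finset.sum_sub_distrib,
      Finset.sum_add_distrib, sum_gb_E m x]
    simp only [gb_zero, pow_zero, mul_one, one_mul, Nat.sub_zero]
    linear_combination h2 - h1 + hlast - h0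

/-- The number of nilpotent endomorphisms of a `k`-space with `r`-dimensional kernel. -/
def nf (k r : ℕ) : K :=
  Q ^ (k * (k - 1)) * gb Q k r * (Q ^ (k - 1))⁻¹ ^ r * E Q (Q ^ (k - 1))⁻¹ (k - r)

include hQ in
theorem sum_nf_ind (hQ0 : Q ≠ 0) {k s : ℕ} (hs : s ≤ k) :
    ∑ r ∈ range (k + 1), nf Q k r * ind Q (Q ^ r) s =
      ind Q (Q ^ k) s * Q ^ ((k - 1) * (k - s)) := by
  obtain ⟨l, rfl⟩ := Nat.exists_eq_add_of_le hs
  set x := (Q ^ (s + l - 1))⁻¹ with hx
  rw [show s + l + 1 = s + (l + 1) by ring, Finset.sum_range_add]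
  rw [Finset.sum_eq_zero fun r hr => by rw [ind_pow_eq_zero Q (Finset.mem_range.1 hr), mul_zero],
    zero_add]
  have hterm : ∀ i ∈ range (l + 1), nf Q (s + l) (s + i) * ind Q (Q ^ (s + i)) s =
      Q ^ ((s + l) * (s + l - 1)) * x ^ s * ind Q (Q ^ (s + l)) s *
        (gb Q l i * x ^ i * E Q x (l - i)) := fun i hi => by
    have hi' : i ≤ l := Nat.lt_succ_iff.1 (Finset.mem_range.1 hi)
    have := gb_mul_ind Q hQ (k := s + l) (s := s) (i := i) (by omega)
    rw [Nat.add_sub_cancel_left] at this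
    rw [nf, Nat.add_sub_add_left, ← hx, pow_add]
    linear_combination (Q ^ ((s + l) * (s + l - 1)) * x ^ s * x ^ i * E Q x (l - i)) * this
  rw [Finset.sum_congr rfl hterm, ← Finset.mul_sum, sum_gb_E Q hQ l x, mul_one,
    Nat.add_sub_cancel_left]
  have : Q ^ ((s + l) * (s + l - 1)) * x ^ s = Q ^ ((s + l - 1) * l) := by
    rw [hx, inv_pow, ← pow_mul, mul_inv_eq_iff_eq_mul₀ (pow_ne_zero _ hQ0), ← pow_add]
    congr 1
    ring
  rw [this]
  ring

theorem nf_zero (hQ0 : Q ≠ 0) {k : ℕ} (hk : k ≠ 0) : nf Q k 0 = 0 := by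
  have : E Q (Q ^ (k - 1))⁻¹ (k - 0) = 0 :=
    Finset.prod_eq_zero (i := k - 1) (Finset.mem_range.2 (by omega))
      (by rw [inv_mul_cancel₀ (pow_ne_zero _ hQ0), sub_self])
  rw [nf, this, mul_zero]

theorem E_mul_cc (hQ0 : Q ≠ 0) {k : ℕ} : ∀ r, r + 1 ≤ k →
    E Q (Q ^ (k - 1))⁻¹ (k - (r + 1)) * cc Q (r + 1) =
      (-1) ^ r * Q ^ (r + 1).choose 2 * E Q (Q ^ (k - 1))⁻¹ (k - 1)
  | 0, _ => by simp [cc]
  | r + 1, h => by
    have ih := E_mul_cc hQ0 (k := k) r (by omega)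
    obtain ⟨l, rfl⟩ := Nat.exists_eq_add_of_le h
    rw [show r + 1 + 1 + l - (r + 1) = l + 1 by omega] at ih
    have hc : cc Q (r + 1 + 1) = cc Q (r + 1) * (1 - Q ^ (r + 1)) := by
      simp only [cc, Nat.add_sub_cancel]
      exact Finset.prod_range_succ _ _
    have hE : E Q (Q ^ (r + 1 + 1 + l - 1))⁻¹ (l + 1) =
        E Q (Q ^ (r + 1 + 1 + l - 1))⁻¹ l * (1 - (Q ^ (r + 1))⁻¹) := by
      rw [E, Finset.prod_range_succ]
      congr 2
      rw [show r + 1 + 1 + l - 1 = r + 1 + l by omega, pow_add, mul_inv, mul_assoc,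
        inv_mul_cancel₀ (pow_ne_zero _ hQ0), mul_one]
    have h1 : (1 : K) - Q ^ (r + 1) = -Q ^ (r + 1) * (1 - (Q ^ (r + 1))⁻¹) := by
      rw [mul_sub, mul_one, neg_mul, mul_inv_cancel₀ (pow_ne_zero _ hQ0)]
      ring
    rw [hE] at ih
    rw [hc, h1, choose_two_succ (r + 1), pow_add, Nat.add_sub_cancel_left]
    linear_combination (-Q ^ (r + 1)) * ih

include hQ in
theorem sum_nf_cc_sq (hQ0 : Q ≠ 0) {k : ℕ} (hk : k ≠ 0) :
    (Q ^ k - 1) * ∑ r ∈ range (k + 1), nf Q k r * cc Q r ^ 2 = (k : K) * ind Q (Q ^ k) k := by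
  obtain ⟨m, rfl⟩ := Nat.exists_eq_add_one_of_ne_zero hk
  set x := (Q ^ m)⁻¹ with hx
  have hterm : ∀ r ∈ range (m + 1 + 1), nf Q (m + 1) r * cc Q r ^ 2 =
      Q ^ ((m + 1) * m) * E Q x m *
        (gb Q (m + 1) r * ((-1) ^ (r + 1) * Q ^ r.choose 2 * x ^ r * cs Q (m + 1) r)) := by
    intro r hr
    have hr' : r ≤ m + 1 := Nat.lt_succ_iff.1 (Finset.mem_range.1 hr)
    rcases r with _ | r
    · rw [nf_zero Q hQ0 hk, cs_zero]; ring
    · have h1 := E_mul_cc Q hQ0 (k := m + 1) r hr'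
      rw [Nat.add_sub_cancel, ← hx] at h1
      rw [cs_eq_cc Q hr' (Nat.succ_ne_zero r), nf, Nat.add_sub_cancel, ← hx]
      linear_combination (Q ^ ((m + 1) * m) * gb Q (m + 1) (r + 1) * x ^ (r + 1) *
        cc Q (r + 1)) * h1
  have hswap : ∑ r ∈ range (m + 1 + 1),
      gb Q (m + 1) r * ((-1) ^ (r + 1) * Q ^ r.choose 2 * x ^ r * cs Q (m + 1) r) =
      ∑ j ∈ range (m + 1 + 1), ∑ r ∈ range (m + 1 + 1), gb Q (m + 1) r * ((-1) ^ (r + 1) *
        Q ^ r.choose 2 * x ^ r * ((-1) ^ (j + 1) * (j : K) * Q ^ j.choose 2 * gb Q r j)) := by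
    simp only [cs, Finset.mul_sum]
    exact Finset.sum_comm
  rw [Finset.sum_congr rfl hterm, ← Finset.mul_sum, hswap]
  have hinner : ∀ j ∈ range (m + 1 + 1),
      ∑ r ∈ range (m + 1 + 1), gb Q (m + 1) r * ((-1) ^ (r + 1) * Q ^ r.choose 2 * x ^ r *
        ((-1) ^ (j + 1) * (j : K) * Q ^ j.choose 2 * gb Q r j)) =
      (j : K) * Q ^ j.choose 2 * Q ^ j.choose 2 * x ^ j * gb Q (m + 1) j *
        E Q (x * Q ^ j) (m + 1 - j) := by
    intro j hj
    obtain ⟨l, hl⟩ := Nat.exists_eq_add_of_le (Nat.lt_succ_iff.1 (Finset.mem_range.1 hj))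
    rw [hl, show j + l + 1 = j + (l + 1) by ring, Finset.sum_range_add,
      Finset.sum_eq_zero fun r hr => by rw [gb_eq_zero Q (Finset.mem_range.1 hr)]; ring,
      zero_add, Nat.add_sub_cancel_left, E_eq_sum, Finset.mul_sum]
    refine Finset.sum_congr rfl fun i hi => ?_
    have hi' : i ≤ l := Nat.lt_succ_iff.1 (Finset.mem_range.1 hi)
    have h2 := gb_trinomial Q hQ (k := j + l) (s := j) (i := i) (by omega)
    rw [Nat.add_sub_cancel_left] at h2
    have h3 := choose_two_add j i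
    have h4 : ((-1 : K) ^ j) ^ 2 = 1 := by rw [← pow_mul, mul_comm, pow_mul, neg_one_sq, one_pow]
    rw [h3, pow_add, pow_add, pow_add, mul_pow, ← pow_mul, pow_succ, pow_add, pow_succ]
    linear_combination (((-1 : K) ^ j) ^ 2 * (-1) ^ i * Q ^ j.choose 2 * Q ^ j.choose 2 *
      Q ^ i.choose 2 * Q ^ (j * i) * x ^ j * x ^ i * (j : K)) * h2 +
      ((-1 : K) ^ i * Q ^ j.choose 2 * Q ^ j.choose 2 * Q ^ i.choose 2 * Q ^ (j * i) * x ^ j *
        x ^ i * (j : K) * gb Q (j + l) j * gb Q l i) * h4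
  rw [Finset.sum_congr rfl hinner, Finset.sum_eq_single (m + 1)]
  · have h5 : Q ^ (m + 1).choose 2 * Q ^ (m + 1).choose 2 * x ^ (m + 1) = 1 := by
      rw [hx, inv_pow, ← pow_add, ← pow_mul, mul_inv_eq_one₀ (pow_ne_zero _ hQ0)]
      congr 1
      clear * - m
      induction m with
      | zero => rfl
      | succ m ih =>
        rw [choose_two_succ (m + 1)]
        linear_combination ih
    have h6 : Q ^ ((m + 1) * m) * E Q x m = Q ^ m * ind Q (Q ^ m) m := by
      have : ∏ i ∈ range m, (Q ^ m - Q ^ i) = Q ^ (m * m) * E Q x m := by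
        rw [E, show Q ^ (m * m) = ∏ _i ∈ range m, Q ^ m by simp [pow_mul],
          ← Finset.prod_mul_distrib]
        refine Finset.prod_congr rfl fun i _ => ?_
        rw [hx, mul_sub, mul_one, mul_inv_cancel_left₀ (pow_ne_zero _ hQ0)]
      rw [ind, this, show (m + 1) * m = m + m * m by ring, pow_add]
      ring
    have h7 : ind Q (Q ^ (m + 1)) (m + 1) = (Q ^ (m + 1) - 1) * Q ^ m * ind Q (Q ^ m) m := by
      rw [ind, Finset.prod_range_succ', ind]
      have : ∀ i, Q ^ (m + 1) - Q ^ (i + 1) = Q * (Q ^ m - Q ^ i) := fun i => by ring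
      simp only [this, Finset.prod_mul_distrib, Finset.prod_const, Finset.card_range]
      ring
    rw [Nat.sub_self, gb_self, show E Q (x * Q ^ (m + 1)) 0 = 1 from rfl, h7]
    linear_combination ((m + 1 : ℕ) : K) * (Q ^ (m + 1) - 1) * Q ^ ((m + 1) * m) * E Q x m * h5 +
      ((m + 1 : ℕ) : K) * (Q ^ (m + 1) - 1) * h6
  · intro j hj hne
    have hj' : j < m + 1 := lt_of_le_of_ne (Nat.lt_succ_iff.1 (Finset.mem_range.1 hj)) hne
    rw [E, Finset.prod_eq_zero (i := m - j) (Finset.mem_range.2 (by omega)), mul_zero]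
    rw [hx, mul_assoc, ← pow_add, Nat.add_sub_cancel' (by omega),
      inv_mul_cancel₀ (pow_ne_zero _ hQ0), sub_self]
  · exact fun h => absurd (Finset.mem_range.2 (Nat.lt_succ_self _)) h

end Field

/-- `D * cc` is an integral polynomial in `Q^t` when `D` is divisible by every `phi`. -/
theorem exists_poly (Q D : ℤ) (k : ℕ) (hD : ∀ j ≤ k, phi Q j ∣ D) :
    ∃ w : ℕ → ℤ, ∀ t, t ≠ 0 → t ≤ k → D * cc Q t = ∑ i ∈ range (k + 1), w i * (Q ^ t) ^ i := by
  let P : Polynomial ℤ := ∑ j ∈ range (k + 1),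
    Polynomial.C ((-1) ^ (j + 1) * (j : ℤ) * (D / phi Q j)) *
      ∏ i ∈ range j, (Polynomial.X - Polynomial.C (Q ^ i))
  have hdeg : P.natDegree < k + 1 := by
    refine Nat.lt_succ_of_le (Polynomial.natDegree_sum_le_of_forall_le _ _ fun j hj => ?_)
    refine (Polynomial.natDegree_C_mul_le _ _).trans ?_
    rw [Polynomial.natDegree_prod _ _ fun i _ => Polynomial.X_sub_C_ne_zero _]
    simp only [Polynomial.natDegree_X_sub_C, Finset.sum_const, Finset.card_range, smul_eq_mul,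
      mul_one]
    exact Nat.lt_succ_iff.1 (Finset.mem_range.1 hj)
  refine ⟨P.coeff, fun t ht htk => ?_⟩
  rw [← Polynomial.eval_eq_sum_range' hdeg, ← cs_eq_cc Q htk ht, cs, Finset.mul_sum]
  simp only [P, Polynomial.eval_finsetSum, Polynomial.eval_mul, Polynomial.eval_C,
    Polynomial.eval_prod, Polynomial.eval_sub, Polynomial.eval_X]
  refine Finset.sum_congr rfl fun j hj => ?_
  have h1 := ind_pow_eq Q t j
  rw [ind] at h1
  rw [h1]
  obtain ⟨c, hc⟩ := hD j (Nat.lt_succ_iff.1 (Finset.mem_range.1 hj))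
  rcases eq_or_ne (phi Q j) 0 with h0 | h0
  · rw [hc, h0]; ring
  · rw [hc, Int.mul_ediv_cancel_left _ h0]; ring

end CfsgLib.GreenCuspidal.QBinom
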