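import Cfsg.Agent.Lib.GreenCuspidal.LocalVirtual
import Cfsg.Agent.Lib.CharDeep.Brauer
import Cfsg.Agent.Lib.CharDeep.PartHom

/-!
# Green's class function is a virtual character
-/

set_option autoImplicit false
set_option linter.unusedSectionVars false

namespace CfsgLib.GreenCuspidal.Virtual

open Polynomial CfsgLib.GreenCuspidal.EndBasics CfsgLib.GreenCuspidal.Green
open CfsgLib.GreenCuspidal.LocalVirtual
open scoped ComplexConjugate

universe u

variable {F : Type*} [Field F] [Fintype F]
variable {B : Type*} [Field B] [Algebra F B] [Fintype B]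
variable {V : Type*} [AddCommGroup V] [Module F V] [Module.Finite F V]

local notation "q" => Fintype.card F

theorem aeval_restrict {W : Submodule F V} {s : Module.End F V} (h : ∀ x ∈ W, s x ∈ W) (f : F[X])
    (x : W) : ((aeval (s.restrict h) f x : W) : V) = aeval s f x := by
  induction f using Polynomial.induction_on' with
  | add f g hf hg =>
    rw [map_add, map_add, LinearMap.add_apply, LinearMap.add_apply, Submodule.coe_add, hf, hg]
  | monomial k a =>
    rw [aeval_monomial, aeval_monomial, Module.End.mul_apply, Module.End.mul_apply,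
      Module.algebraMap_end_apply, Module.algebraMap_end_apply, Submodule.coe_smul]
    congr 1
    induction k generalizing x with
    | zero => rfl
    | succ k ih =>
      rw [pow_succ, pow_succ, Module.End.mul_apply, Module.End.mul_apply, ih]
      rfl

theorem aeval_eq_zero_of_ker {p : ℕ} [Fact p.Prime] [CharP F p] {M : ℕ} {a u : Module.End F V}
    {α : B} (hM : ¬ p ∣ M) (ha : a ^ M = 1) (hu : IsNilpotent (u - 1)) (hc : Commute a u)
    (h0 : ∀ x ∈ LinearMap.ker (u - 1), aeval a (minpoly F α) x = 0) :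
    aeval a (minpoly F α) = 0 := by
  set T := aeval a (minpoly F α) with hT
  have hcomm : Commute T (u - 1) := by
    have h1 : Commute a (u - 1) := hc.sub_right (Commute.one_right a)
    rw [hT, aeval_eq_sum_range]
    exact Commute.sum_left _ _ _ fun i _ => (h1.pow_left i).smul_left _
  have key : ∀ i (v : V), ((u - 1) ^ i) v = 0 → (T ^ i) v = 0 := by
    intro i
    induction i with
    | zero => exact fun v h => h
    | succ i ih =>
      intro v hv
      rw [pow_succ, Module.End.mul_apply]
      refine ih _ ?_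
      rw [← Module.End.mul_apply, ← (hcomm.pow_right i).eq, Module.End.mul_apply]
      refine h0 _ ?_
      rw [LinearMap.mem_ker, ← Module.End.mul_apply, ← pow_succ']
      exact hv
  obtain ⟨N, hN⟩ := hu
  refine aeval_eq_zero_of_isNilpotent (u := (1 : Module.End F V)) hM ha
    (by rw [sub_self]; exact IsNilpotent.zero) (Commute.one_right a) ?_
  rw [mul_one]
  exact ⟨N, LinearMap.ext fun v => key N v (by rw [hN]; rfl)⟩

theorem finrank_ker_pos [Nontrivial V] {u : Module.End F V} (hu : IsNilpotent (u - 1)) :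
    0 < Module.finrank F (LinearMap.ker (u - 1)) := by
  rw [pos_iff_ne_zero, Ne, Submodule.finrank_eq_zero, LinearMap.ker_eq_bot]
  intro hinj
  obtain ⟨N, hN⟩ := hu
  have h := hinj.iterate N
  rw [← Module.End.coe_pow, hN] at h
  obtain ⟨v, hv⟩ := exists_ne (0 : V)
  exact hv (h (by simp))

theorem green_mul (Θ : B →*₀ ℂ) {p : ℕ} [Fact p.Prime] [CharP F p] {M : ℕ}
    {a u : Module.End F V} (hM : ¬ p ∣ M) (ha : a ^ M = 1) (hu : IsNilpotent (u - 1))
    (hc : Commute a u) (h : ∀ x ∈ LinearMap.ker (u - 1), a x ∈ LinearMap.ker (u - 1)) :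
    green Θ (a * u) = gW Θ (a.restrict h) := by
  classical
  have hM0 : M ≠ 0 := fun h => hM (h ▸ dvd_zero p)
  have hinj : Function.Injective a := by
    intro x y hxy
    obtain ⟨j, rfl⟩ := Nat.exists_eq_succ_of_ne_zero hM0
    have := congrArg (fun z => (a ^ j) z) hxy
    simpa [← Module.End.mul_apply, ← pow_succ, ha] using this
  refine Finset.sum_congr rfl fun α _ => ?_
  by_cases h0 : aeval a (minpoly F α) = 0
  · rw [if_pos (isNilpotent_aeval_mul h0 hu hc), if_pos]
    · rw [tt, ker_aeval_mul h0 hinj hu hc]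
    · refine LinearMap.ext fun x => Subtype.ext ?_
      rw [aeval_restrict, h0]
      rfl
  · rw [if_neg (fun hn => h0 (aeval_eq_zero_of_isNilpotent hM ha hu hc hn)), if_neg]
    refine fun hn => h0 (aeval_eq_zero_of_ker hM ha hu hc fun x hx => ?_)
    rw [← aeval_restrict h _ ⟨x, hx⟩, hn]
    rfl

theorem isIntegral_theta (Θ : B →*₀ ℂ) (α : B) : IsIntegral ℤ (Θ α) := by
  rcases eq_or_ne α 0 with rfl | hα
  · rw [map_zero]; exact isIntegral_zero
  · refine Char.isIntegral_of_pow_eq_one (n := Fintype.card B - 1)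
      (Nat.sub_ne_zero_of_lt Fintype.one_lt_card) ?_
    rw [← map_pow, FiniteField.pow_card_sub_one_eq_one α hα, map_one]

theorem isIntegral_green (Θ : B →*₀ ℂ) (T : Module.End F V) : IsIntegral ℤ (green Θ T) := by
  classical
  refine IsIntegral.sum _ fun α _ => ?_
  split_ifs
  · refine (isIntegral_theta Θ α).mul ?_
    rw [show QBinom.cc ((q : ℂ) ^ dg F α) (tt α T) =
      algebraMap ℤ ℂ (QBinom.cc ((q : ℤ) ^ dg F α) (tt α T)) by
        rw [NilpCount.map_cc]; simp]
    exact isIntegral_algebraMap
  · exact isIntegral_zero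

theorem classInner_isIntegral {A : Type u} [Group A] [Fintype A] {f χ : A → ℂ}
    (hf : ∀ a, IsIntegral ℤ (f a)) (hχ : Cfsg.IsIrrCharacter A χ) :
    IsIntegral ℤ ((Nat.card A : ℂ) * Cfsg.classInner f χ) := by
  rw [Cfsg.classInner, ← mul_assoc, mul_inv_cancel₀ Char.card_ne_zero, one_mul]
  refine IsIntegral.sum _ fun a _ => (hf a).mul ?_
  exact (Char.IsCharacter.isIntegral (Char.IsCharacter.conj' (Char.IsIrrCharacter.isCharacter hχ)) a)

section Product

variable (F B V)

/-- The coefficients of `D · cc`. -/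
theorem exists_weights : ∃ w : B → ℕ → ℤ, ∀ (α : B) (t : ℕ), t ≠ 0 →
    dg F α * t ≤ Module.finrank F V →
      QBinom.phi (q : ℤ) (Module.finrank F V) * QBinom.cc ((q : ℤ) ^ dg F α) t =
        ∑ i ∈ Finset.range (Module.finrank F V + 1), w α i * (((q : ℤ) ^ dg F α) ^ t) ^ i := by
  classical
  set n := Module.finrank F V
  have : ∀ α : B, ∃ w : ℕ → ℤ, ∀ t, t ≠ 0 → t ≤ n / dg F α →
      QBinom.phi (q : ℤ) n * QBinom.cc ((q : ℤ) ^ dg F α) t =
        ∑ i ∈ Finset.range (n / dg F α + 1), w i * (((q : ℤ) ^ dg F α) ^ t) ^ i := by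
    intro α
    refine QBinom.exists_poly _ _ _ fun j hj => ?_
    have hd := dg_pos (F := F) α
    have h1 : QBinom.phi ((q : ℤ) ^ dg F α) j =
        ∏ e ∈ (Finset.range j).image (fun i => dg F α * (i + 1) - 1), ((q : ℤ) ^ (e + 1) - 1) := by
      rw [QBinom.phi, Finset.prod_image fun x _ y _ h => by
        have h1 := Nat.mul_pos hd (Nat.add_one_pos x)
        have h2 := Nat.mul_pos hd (Nat.add_one_pos y)
        exact Nat.add_right_cancel (Nat.eq_of_mul_eq_mul_left hd (by omega : dg F α * (x + 1) = dg F α * (y + 1)))]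
      refine Finset.prod_congr rfl fun i _ => ?_
      rw [← pow_mul, Nat.sub_add_cancel (Nat.mul_pos hd (Nat.add_one_pos i))]
    rw [h1, QBinom.phi]
    refine Finset.prod_dvd_prod_of_subset _ _ _ fun e he => ?_
    obtain ⟨i, hi, rfl⟩ := Finset.mem_image.1 he
    have h2 : dg F α * (i + 1) ≤ n :=
      (Nat.mul_le_mul_left _ ((Finset.mem_range.1 hi).trans_le hj)).trans (Nat.mul_div_le n _)
    have h3 := Nat.mul_pos hd (Nat.add_one_pos i)
    rw [Finset.mem_range]
    show dg F α * (i + 1) - 1 < n
    omega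
  choose w hw using this
  refine ⟨fun α i => if i ≤ n / dg F α then w α i else 0, fun α t ht hle => ?_⟩
  have hle' : t ≤ n / dg F α := by
    rw [Nat.le_div_iff_mul_le (dg_pos α), mul_comm]
    exact hle
  rw [hw α t ht hle']
  simp only [ite_mul, zero_mul]
  rw [← Finset.sum_filter]
  refine Finset.sum_congr ?_ fun _ _ => rfl
  ext i
  have := Nat.div_le_self n (dg F α)
  simp only [Finset.mem_range, Finset.mem_filter]
  omega

variable {F B V}

/-- On a product of a group of order prime to `p` and a `p`-group of automorphisms, Green's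
function is an integral combination of products of irreducible characters. -/
theorem exists_coeff_green [Nontrivial V] (Θ : B →*₀ ℂ)
    (hB : ∀ m, 0 < m → m ≤ Module.finrank F V →
      ∃ M : IntermediateField F B, Module.finrank F M = m)
    {p : ℕ} [Fact p.Prime] [CharP F p] {A U : Type u} [Group A] [Group U] [Fintype A] [Fintype U]
    (iA : A →* Module.End F V) (iU : U →* Module.End F V) (hc : ∀ a u, Commute (iA a) (iU u))
    {M : ℕ} (hM : ¬ p ∣ M) (hA : ∀ a, iA a ^ M = 1) (hA' : ¬ p ∣ Nat.card A)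
    (hU : ∀ u, IsNilpotent (iU u - 1)) (hU' : ∀ l : ℕ, l.Prime → l ∣ Nat.card U → l = p) :
    ∃ c : Cfsg.IrrCharacter A → Cfsg.IrrCharacter U → ℤ, ∀ a u, green Θ (iA a * iU u) =
      ∑ l : Cfsg.IrrCharacter A, ∑ μ : Cfsg.IrrCharacter U,
        (c l μ : ℂ) * (l : A → ℂ) a * (μ : U → ℂ) u := by
  classical
  set n := Module.finrank F V
  have : Finite V := Module.finite_of_finite F
  let : Fintype V := Fintype.ofFinite V
  have hinv : ∀ a u, ∀ x ∈ LinearMap.ker (iU u - 1), iA a x ∈ LinearMap.ker (iU u - 1) := by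
    intro a u x hx
    rw [LinearMap.mem_ker] at hx ⊢
    rw [← Module.End.mul_apply, ← ((hc a u).sub_right (Commute.one_right (iA a))).eq,
      Module.End.mul_apply, hx, map_zero]
  have hclassA : ∀ u, Cfsg.IsClassFunction A (fun a => green Θ (iA a * iU u)) := by
    intro u a b
    show green Θ (iA (b * a * b⁻¹) * iU u) = green Θ (iA a * iU u)
    rw [← green_conj Θ (equivOf iA b) (iA a * iU u)]
    congr 1
    show _ = iA b * (iA a * iU u) * iA b⁻¹
    rw [map_mul, map_mul, mul_assoc, (hc b⁻¹ u).eq]
    simp only [mul_assoc]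
  let m : Cfsg.IrrCharacter A → U → ℂ := fun l u =>
    Cfsg.classInner (fun a => green Θ (iA a * iU u)) (l : A → ℂ)
  have hclassU : ∀ l, Cfsg.IsClassFunction U (m l) := by
    intro l u v
    refine congrArg (fun f => Cfsg.classInner f (l : A → ℂ)) (funext fun a => ?_)
    rw [← green_conj Θ (equivOf iU v) (iA a * iU u)]
    congr 1
    show _ = iU v * (iA a * iU u) * iU v⁻¹
    rw [map_mul, map_mul, ← mul_assoc (iU v) (iA a), ← (hc a v).eq]
    simp only [mul_assoc]
  have hqp : ∀ N : ℕ, Nat.Coprime (q ^ N) (Nat.card A) := by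
    intro N
    obtain ⟨f, hp, hf⟩ := FiniteField.card F p
    rw [hf, ← pow_mul]
    exact Nat.Coprime.pow_left _ (hp.coprime_iff_not_dvd.2 hA')
  have hmint : ∀ l u, ∃ z : ℤ, m l u = z := by
    intro l u
    set W := LinearMap.ker (iU u - 1) with hW
    have : Finite W := Module.finite_of_finite F
    let : Fintype (Submodule F W) := Fintype.ofFinite _
    let ρ : A →* Module.End F W :=
      { toFun := fun a => (iA a).restrict (hinv a u)
        map_one' := LinearMap.ext fun x => Subtype.ext
          (by show iA 1 (x : V) = x; rw [map_one]; rfl)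
        map_mul' := fun a b => LinearMap.ext fun x => Subtype.ext
          (by show iA (a * b) (x : V) = iA a (iA b x); rw [map_mul]; rfl) }
    obtain ⟨K, hK⟩ := hB (Module.finrank F W) (finrank_ker_pos (hU u))
      (Submodule.finrank_le W)
    obtain ⟨N, hN⟩ := exists_pow_mul_gen_gW Θ ρ K hK
    obtain ⟨z, hz⟩ := (Char.isGeneralizedCharacter_iff.1 hN).2 _ l.2
    have hfun : (fun a => green Θ (iA a * iU u)) = fun a => gW Θ (ρ a) :=
      funext fun a => green_mul Θ hM (hA a) (hU u) (hc a u) (hinv a u)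
    have hz' : ((q ^ N : ℕ) : ℂ) * m l u = z := by
      rw [← hz, show (fun a => (q : ℂ) ^ N * gW Θ (ρ a)) = ((q : ℂ) ^ N) • fun a => gW Θ (ρ a)
        from rfl, Char.classInner_smul_left]
      push_cast
      rw [← hfun]
    refine VirtualTools.exists_int_of_coprime (hqp N) (hz' ▸ isIntegral_algebraMap (x := z))
      (classInner_isIntegral (fun a => isIntegral_green Θ _) l.2) (r := (z : ℚ) / (q ^ N : ℕ)) ?_
    have hne : ((q ^ N : ℕ) : ℂ) ≠ 0 := Nat.cast_ne_zero.2 (pow_ne_zero _ Fintype.card_ne_zero)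
    push_cast at hne hz' ⊢
    field_simp
    linear_combination hz'
  obtain ⟨w, hw⟩ := exists_weights F B V
  let fx : U → ℕ := fun u => Nat.card (LinearMap.ker (iU u - 1))
  have hfx : Cfsg.IsGeneralizedCharacter U (fun u => (fx u : ℂ)) := by
    let : MulAction U V :=
      { smul := fun u x => iU u x
        one_smul := fun x => by show iU 1 x = x; rw [map_one]; rfl
        mul_smul := fun u v x => by show iU (u * v) x = iU u (iU v x); rw [map_mul]; rfl }
    convert VirtualTools.gen_perm (A := U) (X := V) using 2 with u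
    exact congrArg _ (Nat.card_congr (Equiv.subtypeEquivRight fun x => by
      show (iU u - 1) x = 0 ↔ iU u x = x
      rw [LinearMap.sub_apply, Module.End.one_apply, sub_eq_zero]))
  let Wc : ℕ → A → ℂ := fun i a =>
    ∑ α : B, if aeval (iA a) (minpoly F α) = 0 then Θ α * (w α i : ℂ) else 0
  have hWc : ∀ i a, IsIntegral ℤ (Wc i a) := by
    intro i a
    refine IsIntegral.sum _ fun α _ => ?_
    split_ifs
    · exact (isIntegral_theta Θ α).mul (isIntegral_algebraMap (x := w α i))
    · exact isIntegral_zero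
  set D : ℕ := ∏ e ∈ Finset.range n, (q ^ (e + 1) - 1) with hD
  have hDphi : ((D : ℕ) : ℤ) = QBinom.phi (q : ℤ) n := by
    rw [hD, QBinom.phi, Nat.cast_prod]
    refine Finset.prod_congr rfl fun e _ => ?_
    rw [Nat.cast_sub (Nat.one_le_pow _ _ Fintype.card_pos)]
    push_cast
    rfl
  have hexp : ∀ a u, (D : ℂ) * green Θ (iA a * iU u) =
      ∑ i ∈ Finset.range (n + 1), Wc i a * (fx u : ℂ) ^ i := by
    intro a u
    rw [green_mul Θ hM (hA a) (hU u) (hc a u) (hinv a u), gW, Finset.mul_sum]
    simp only [Wc, Finset.sum_mul, ite_mul, zero_mul]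
    rw [Finset.sum_comm (s := Finset.range (n + 1))]
    refine Finset.sum_congr rfl fun α _ => ?_
    by_cases h0 : aeval (iA a) (minpoly F α) = 0
    · have h0' : aeval ((iA a).restrict (hinv a u)) (minpoly F α) = 0 := by
        refine LinearMap.ext fun x => Subtype.ext ?_
        rw [aeval_restrict, h0]
        rfl
      obtain ⟨t, ht⟩ := dg_dvd_finrank α h0'
      have hpos := finrank_ker_pos (hU u)
      have ht0 : t ≠ 0 := by
        rintro rfl
        rw [mul_zero] at ht
        omega
      have hfxu : fx u = (q ^ dg F α) ^ t := by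
        rw [← pow_mul, ← ht, ← Nat.card_eq_fintype_card]
        exact Module.natCard_eq_pow_finrank
      have h1 := congrArg (fun z : ℤ => (z : ℂ))
        (hw α t ht0 (ht ▸ Submodule.finrank_le _))
      rw [← hDphi] at h1
      simp only [Int.cast_mul, Int.cast_sum, Int.cast_pow, Int.cast_natCast] at h1
      rw [← eq_intCast (Int.castRingHom ℂ) (QBinom.cc _ t), NilpCount.map_cc] at h1
      simp only [map_pow, map_natCast] at h1
      simp only [if_pos h0, if_pos h0']
      rw [ht, Nat.mul_div_cancel_left _ (dg_pos α), mul_left_comm, h1, Finset.mul_sum]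
      refine Finset.sum_congr rfl fun i _ => ?_
      rw [hfxu]
      push_cast
      ring
    · have h0' : ¬ aeval ((iA a).restrict (hinv a u)) (minpoly F α) = 0 := fun hn =>
        h0 (aeval_eq_zero_of_ker hM (hA a) (hU u) (hc a u) fun x hx => by
          rw [← aeval_restrict (hinv a u) _ ⟨x, hx⟩, hn]
          rfl)
      simp only [if_neg h0, if_neg h0', mul_zero, Finset.sum_const_zero]
  have hDne : (D : ℂ) ≠ 0 := by
    rw [Nat.cast_ne_zero, hD, Finset.prod_ne_zero_iff]
    exact fun e _ => Nat.sub_ne_zero_of_lt (Nat.one_lt_pow (Nat.succ_ne_zero e) Fintype.one_lt_card)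
  obtain ⟨r, hr⟩ := LinearMap.exists_leftInverse_of_injective (Algebra.linearMap ℚ ℂ)
    (LinearMap.ker_eq_bot.2 (algebraMap ℚ ℂ).injective)
  have hrq : ∀ x : ℚ, r (x : ℂ) = x := fun x => by
    simpa using DFunLike.congr_fun hr x
  have hcint : ∀ (l : Cfsg.IrrCharacter A) (μ : Cfsg.IrrCharacter U),
      ∃ z : ℤ, Cfsg.classInner (m l) (μ : U → ℂ) = z := by
    intro l μ
    choose zm hzm using hmint l
    let W' : ℕ → ℂ := fun i => ∑ a : A, Wc i a * conj ((l : A → ℂ) a)
    have hW' : ∀ i, IsIntegral ℤ (W' i) := fun i => IsIntegral.sum _ fun a _ =>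
      (hWc i a).mul (Char.IsCharacter.isIntegral
        (Char.IsCharacter.conj' (Char.IsIrrCharacter.isCharacter l.2)) a)
    set T : ℂ := ((D * Nat.card A : ℕ) : ℂ) with hT
    have hT0 : T ≠ 0 := by
      rw [hT, Nat.cast_mul]
      exact mul_ne_zero hDne Char.card_ne_zero
    have hTm : ∀ u, T * m l u = ∑ i ∈ Finset.range (n + 1), W' i * (fx u : ℂ) ^ i := by
      intro u
      simp only [m, W', Cfsg.classInner, Finset.sum_mul]
      rw [hT, Nat.cast_mul, mul_assoc (D : ℂ), ← mul_assoc (Nat.card A : ℂ),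
        mul_inv_cancel₀ Char.card_ne_zero, one_mul, Finset.mul_sum,
        Finset.sum_comm (s := Finset.range (n + 1))]
      refine Finset.sum_congr rfl fun a _ => ?_
      rw [← mul_assoc, hexp, Finset.sum_mul]
      exact Finset.sum_congr rfl fun i _ => by ring
    have hpow : ∀ i, ∃ z : ℤ,
        Cfsg.classInner (fun u => (fx u : ℂ) ^ i) (μ : U → ℂ) = z :=
      fun i => (Char.isGeneralizedCharacter_iff.1 (VirtualTools.gen_pow hfx i)).2 _ μ.2
    choose zp hzp using hpow
    have hTc : T * Cfsg.classInner (m l) (μ : U → ℂ) =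
        ∑ i ∈ Finset.range (n + 1), W' i * zp i := by
      rw [← Char.classInner_smul_left,
        show T • m l = ∑ i ∈ Finset.range (n + 1), W' i • fun u => (fx u : ℂ) ^ i from
          funext fun u => by simp [hTm u], Char.classInner_sum_left]
      exact Finset.sum_congr rfl fun i _ => by rw [Char.classInner_smul_left, hzp]
    have hUc : IsIntegral ℤ ((Nat.card U : ℂ) * Cfsg.classInner (m l) (μ : U → ℂ)) :=
      classInner_isIntegral (fun u => (hzm u) ▸ isIntegral_algebraMap (x := zm u)) μ.2
    have hrat : ∀ u, (zm u : ℚ) = ∑ i ∈ Finset.range (n + 1), r (W' i / T) * (fx u : ℚ) ^ i := by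
      intro u
      have h1 : ((zm u : ℚ) : ℂ) = ∑ i ∈ Finset.range (n + 1), ((fx u : ℚ) ^ i) • (W' i / T) := by
        rw [Rat.cast_intCast, ← hzm u, ← mul_div_cancel_left₀ (m l u) hT0, hTm u, Finset.sum_div]
        refine Finset.sum_congr rfl fun i _ => ?_
        rw [Rat.smul_def, Rat.cast_pow, Rat.cast_natCast]
        ring
      have h2 := congrArg r h1
      rw [hrq, map_sum] at h2
      rw [h2]
      exact Finset.sum_congr rfl fun i _ => by rw [map_smul, smul_eq_mul, mul_comm]
    have hco : Nat.Coprime (Nat.card U) (D * Nat.card A) := by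
      refine Nat.coprime_of_dvd fun k hk hkU hkD => ?_
      have hkp := hU' k hk hkU
      subst hkp
      rcases (hk.dvd_mul).1 hkD with hkD | hkA
      · obtain ⟨e, -, he⟩ := (hk.prime.dvd_finsetProd_iff _).1 hkD
        obtain ⟨f, -, hf⟩ := FiniteField.card F k
        have h1 : k ∣ q ^ (e + 1) := dvd_pow (hf ▸ dvd_pow_self k f.ne_zero) (Nat.succ_ne_zero e)
        have h2 : k ∣ q ^ (e + 1) - (q ^ (e + 1) - 1) := Nat.dvd_sub h1 he
        rw [Nat.sub_sub_self (Nat.one_le_pow _ _ Fintype.card_pos)] at h2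
        exact hk.not_dvd_one h2
      · exact hA' hkA
    refine VirtualTools.exists_int_of_coprime hco hUc ?_
      (r := ∑ i ∈ Finset.range (n + 1), r (W' i / T) * zp i) ?_
    · rw [← hT, hTc]
      exact IsIntegral.sum _ fun i _ => (hW' i).mul (isIntegral_algebraMap (x := zp i))
    · rw [show m l = ∑ i ∈ Finset.range (n + 1),
          ((r (W' i / T) : ℚ) : ℂ) • fun u => (fx u : ℂ) ^ i from funext fun u => by
        rw [hzm u, ← Rat.cast_intCast, hrat u]
        simp, Char.classInner_sum_left]
      push_cast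
      exact Finset.sum_congr rfl fun i _ => by rw [Char.classInner_smul_left, hzp]
  choose c hc' using hcint
  refine ⟨c, fun a u => ?_⟩
  rw [show green Θ (iA a * iU u) = ∑ l : Cfsg.IrrCharacter A, m l u * (l : A → ℂ) a by
    have := congrFun (Char.IsClassFunction.eq_sum_irr (hclassA u)) a
    simpa using this]
  refine Finset.sum_congr rfl fun l _ => ?_
  conv_lhs => rw [Char.IsClassFunction.eq_sum_irr (hclassU l)]
  simp only [Finset.sum_apply, Pi.smul_apply, smul_eq_mul, Finset.sum_mul]
  refine Finset.sum_congr rfl fun μ _ => ?_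
  rw [hc']
  ring

end Product

/-- **Green's function is a virtual character.** -/
theorem gen_green [Nontrivial V] [Fintype (Module.End F V)ˣ] (Θ : B →*₀ ℂ)
    (hB : ∀ m, 0 < m → m ≤ Module.finrank F V →
      ∃ M : IntermediateField F B, Module.finrank F M = m) :
    Cfsg.IsGeneralizedCharacter (Module.End F V)ˣ (fun g => green Θ (g : Module.End F V)) := by
  classical
  refine CharDeep.Brauer.isGeneralizedCharacter_of_elementary (fun g h => ?_)
    fun ℓ hℓ E hE => ?_
  · show green Θ ((h * g * h⁻¹ : (Module.End F V)ˣ) : Module.End F V) = _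
    rw [← green_conj Θ (equivOf (Units.coeHom _) h) (g : Module.End F V), Units.val_mul,
      Units.val_mul]
    rfl
  obtain ⟨p, hp'⟩ := CharP.exists F
  have hp : Fact p.Prime := ⟨CharP.char_is_prime F p⟩
  have := CharDeep.PartHom.isNilpotent_of_isElementary hℓ hE
  obtain ⟨k, m', hm', hcard⟩ :=
    Nat.exists_eq_pow_mul_and_not_dvd (Nat.card_pos (α := E)).ne' p hp.out.ne_one
  have hco : Nat.Coprime (p ^ k) m' := Nat.Coprime.pow_left _ (hp.out.coprime_iff_not_dvd.2 hm')
  obtain ⟨eA, hA0, hA1, hAi⟩ := CharDeep.PartHom.exists_exponent hco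
  obtain ⟨eU, hU0, hU1, hUi⟩ := CharDeep.PartHom.exists_exponent hco.symm
  let pA : E →* E := CharDeep.PartHom.powHom eA (hcard ▸ hAi)
  let pU : E →* E := CharDeep.PartHom.powHom eU (by rw [hcard, mul_comm]; exact hUi)
  have hcard' : Nat.card E = m' * p ^ k := by rw [hcard, mul_comm]
  have hsplit : ∀ x : E, x = pA x * pU x := by
    intro x
    simp only [pA, pU, CharDeep.PartHom.powHom_apply, ← pow_add]
    conv_lhs => rw [← pow_one x]
    refine pow_eq_pow_iff_modEq.2 (Nat.ModEq.of_dvd (orderOf_dvd_natCard x) ?_)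
    rw [hcard]
    exact (Nat.modEq_and_modEq_iff_modEq_mul hco).1
      ⟨by simpa using (hA0.add hU1).symm, by simpa using (hA1.add hU0).symm⟩
  have hordA : ∀ a : pA.range, orderOf (a : E) ∣ m' := by
    rintro ⟨_, x, rfl⟩
    exact CharDeep.PartHom.orderOf_pow_exponent_dvd hcard hA0 x
  have hordU : ∀ u : pU.range, orderOf (u : E) ∣ p ^ k := by
    rintro ⟨_, x, rfl⟩
    exact CharDeep.PartHom.orderOf_pow_exponent_dvd hcard' hU0 x
  have hcomm : ∀ (a : pA.range) (u : pU.range), Commute (a : E) (u : E) := by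
    intro a u
    have hz : pA ((a : E) * u * (a : E)⁻¹ * (u : E)⁻¹) = 1 := by
      rw [map_mul, map_mul, map_mul, map_inv, map_inv,
        show pA (u : E) = 1 from CharDeep.PartHom.pow_exponent_eq_one hA0 (hordU u),
        show pA (a : E) = a from CharDeep.PartHom.pow_exponent_eq_self hA1 (hordA a)]
      simp
    have hz' : pU ((a : E) * u * (a : E)⁻¹ * (u : E)⁻¹) = 1 := by
      rw [map_mul, map_mul, map_mul, map_inv, map_inv,
        show pU (a : E) = 1 from CharDeep.PartHom.pow_exponent_eq_one hU0 (hordA a),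
        show pU (u : E) = u from CharDeep.PartHom.pow_exponent_eq_self hU1 (hordU u)]
      simp
    have h := hsplit ((a : E) * u * (a : E)⁻¹ * (u : E)⁻¹)
    rw [hz, hz', one_mul, mul_inv_eq_one, mul_inv_eq_iff_eq_mul] at h
    exact h
  let val : E →* Module.End F V := (Units.coeHom _).comp E.subtype
  have hval : Function.Injective val := fun x y h => Subtype.ext (Units.ext h)
  let iA : pA.range →* Module.End F V := val.comp pA.range.subtype
  let iU : pU.range →* Module.End F V := val.comp pU.range.subtype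
  have hA' : ¬ p ∣ Nat.card pA.range := by
    intro h
    obtain ⟨a, ha⟩ := exists_prime_orderOf_dvd_card' p h
    rw [← Subgroup.orderOf_coe] at ha
    exact hm' (ha ▸ hordA a)
  have hU' : ∀ l : ℕ, l.Prime → l ∣ Nat.card pU.range → l = p := by
    intro l hl h
    have : Fact l.Prime := ⟨hl⟩
    obtain ⟨u, hu⟩ := exists_prime_orderOf_dvd_card' l h
    rw [← Subgroup.orderOf_coe] at hu
    exact (Nat.prime_dvd_prime_iff_eq hl hp.out).1 (hl.dvd_of_dvd_pow (hu ▸ hordU u))
  have hAM : ∀ a : pA.range, iA a ^ m' = 1 := by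
    intro a
    rw [← map_pow, show a ^ m' = 1 from Subtype.ext (by
      rw [Subgroup.coe_pow]; exact orderOf_dvd_iff_pow_eq_one.1 (hordA a)), map_one]
  have hUn : ∀ u : pU.range, IsNilpotent (iU u - 1) := by
    intro u
    refine ⟨p ^ k, ?_⟩
    have : CharP (Module.End F V) p :=
      charP_of_injective_algebraMap (algebraMap F (Module.End F V)).injective p
    rw [sub_pow_char_pow_of_commute _ _ (Commute.one_right _), ← map_pow,
      show u ^ p ^ k = 1 from Subtype.ext (by
        rw [Subgroup.coe_pow]; exact orderOf_dvd_iff_pow_eq_one.1 (hordU u)),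
      map_one, one_pow, sub_self]
  obtain ⟨c, hc⟩ := exists_coeff_green Θ hB iA iU
    (fun a u => (hcomm a u).map val) hm' hAM hA' hUn hU'
  have hfun : (fun x : E => green Θ ((x : (Module.End F V)ˣ) : Module.End F V)) = fun x : E =>
      ∑ l : Cfsg.IrrCharacter pA.range, ∑ μ : Cfsg.IrrCharacter pU.range,
        (c l μ : ℂ) * ((l : pA.range → ℂ) (pA.rangeRestrict x) *
          (μ : pU.range → ℂ) (pU.rangeRestrict x)) := by
    funext x
    conv_lhs => rw [show ((x : (Module.End F V)ˣ) : Module.End F V) =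
      iA (pA.rangeRestrict x) * iU (pU.rangeRestrict x) from
        (congrArg val (hsplit x)).trans (map_mul val _ _)]
    rw [hc]
    simp only [mul_assoc]
  rw [hfun]
  refine VirtualTools.gen_sum _ _ fun l _ => VirtualTools.gen_sum _ _ fun μ _ => ?_
  exact VirtualTools.gen_mul (VirtualTools.gen_intCast _) (VirtualTools.gen_mul
    (VirtualTools.gen_comp (Char.IsCharacter.isGeneralizedCharacter (Char.isCharacter_irr l))
      pA.rangeRestrict)
    (VirtualTools.gen_comp (Char.IsCharacter.isGeneralizedCharacter (Char.isCharacter_irr μ))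
      pU.rangeRestrict))

end CfsgLib.GreenCuspidal.Virtual
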